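/-
A certificate that every element of the first Janko group is conjugate to one of 5 × 660 explicit products,
whose orders are then checked by evaluation.
-/
import Cfsg.Agent.Lib.Char.J1.Data
import Cfsg.Prelude.Def_Spor_J1

set_option autoImplicit false

namespace CfsgLib.Char.J1

open Cfsg.Spor

/-- Table lookup. -/
def tget {α : Type} (d : α) (L : List (List α)) (i : ℕ) : α := (L.getD (i / 32) []).getD (i % 32) d

/-- The code of an element of the group. -/
def code (g : ↥Cfsg.Spor.J1) : ℕ := enc ((g : GL (Fin 7) (ZMod 11)) : Matrix (Fin 7) (Fin 7) (ZMod 11))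

theorem code_mul (g h : ↥Cfsg.Spor.J1) : code (g * h) = mulC (code g) (code h) := by
  simp [code, mulC_enc]

theorem code_injective : Function.Injective code := fun _ _ h => Subtype.ext (Units.ext (enc_injective h))

/-- The code of the identity. -/
def oneC : ℕ := tget 0 tTab 0

theorem code_one : code 1 = oneC := by decide +kernel

/-- The first generator. -/
def genX : ↥Cfsg.Spor.J1 := ⟨jankoX, Subgroup.subset_closure (Set.mem_insert _ _)⟩

/-- The second generator. -/
def genY : ↥Cfsg.Spor.J1 := ⟨jankoY, Subgroup.subset_closure (Set.mem_insert_of_mem _ rfl)⟩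

/-- The code of the first generator. -/
def xC : ℕ := enc Cfsg.jankoMatrixX

/-- The code of the second generator. -/
def yC : ℕ := enc Cfsg.jankoMatrixY

theorem code_genX : code genX = xC := rfl
theorem code_genY : code genY = yC := rfl

/-- Power of a code. -/
def powC (a : ℕ) : ℕ → ℕ
  | 0 => oneC
  | n + 1 => mulC (powC a n) a

theorem code_pow (g : ↥Cfsg.Spor.J1) : ∀ n : ℕ, code (g ^ n) = powC (code g) n
  | 0 => by rw [pow_zero]; exact code_one
  | n + 1 => by rw [pow_succ, code_mul, code_pow g n]; rfl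

/-! ### The evaluated checks -/

theorem hOne_check : tget 0 hTab 0 = oneC := by decide +kernel

theorem hGen_check :
    mulC (mulC (tget 0 tTab 18) xC) (powC (tget 0 tTab 2) 4) = tget 0 hTab 1 ∧
    mulC (mulC (tget 0 tTab 20) yC) (powC (tget 0 tTab 17) 18) = tget 0 hTab 2 := by
  decide +kernel

/-- Check of the tree and closure of the subgroup table. -/
def hCheck (i : ℕ) : Bool :=
  let t := tget (0, 0) hTree i
  let n := tget (0, 0) hNext i
  (decide (i = 0) || (decide (t.1 < i) &&
      (mulC (tget 0 hTab t.1) (tget 0 hTab (if t.2 = 0 then 1 else 2)) == tget 0 hTab i))) &&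
    (decide (n.1 < 660) && (mulC (tget 0 hTab i) (tget 0 hTab 1) == tget 0 hTab n.1)) &&
    (decide (n.2 < 660) && (mulC (tget 0 hTab i) (tget 0 hTab 2) == tget 0 hTab n.2))

theorem hCheck_all : ((List.range 660).all hCheck) = true := by decide +kernel

/-- Check of the tree, the coset action and the double coset relation of the representatives. -/
def tCheck (i : ℕ) : Bool :=
  let t := tget (0, 0) tTree i
  let p := tget (0, 0) tNextX i
  let q := tget (0, 0) tNextY i
  let d := tget (0, 0, 0) tDouble i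
  (decide (i = 0) || (decide (t.1 < i) &&
      (mulC (tget 0 tTab t.1) (if t.2 = 0 then xC else yC) == tget 0 tTab i))) &&
    (decide (p.1 < 660) && decide (p.2 < 266) &&
      (mulC (tget 0 tTab i) xC == mulC (tget 0 hTab p.1) (tget 0 tTab p.2))) &&
    (decide (q.1 < 660) && decide (q.2 < 266) &&
      (mulC (tget 0 tTab i) yC == mulC (tget 0 hTab q.1) (tget 0 tTab q.2))) &&
    (decide (d.1 < 660) && decide (d.2.1 < 5) && decide (d.2.2 < 660) &&
      (mulC (mulC (tget 0 hTab d.1) (tget 0 tTab ([0, 1, 3, 4, 17].getD d.2.1 0))) (tget 0 hTab d.2.2)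
        == tget 0 tTab i))

theorem tCheck_all : ((List.range 266).all tCheck) = true := by decide +kernel

/-- The exponents of the order check. -/
def expOfTag (k : ℕ) : ℕ := [6, 10, 15, 7, 11, 19].getD k 1

/-- Order check for one element of a double coset. -/
def ordCheck (T : List (List ℕ)) (d h : ℕ) : Bool :=
  powC (mulC (tget 0 hTab h) (tget 0 tTab d)) (expOfTag (tget 0 T h)) == oneC

theorem ordCheck0 : ((List.range 660).all (ordCheck tags0 0)) = true := by decide +kernel
theorem ordCheck1 : ((List.range 660).all (ordCheck tags1 1)) = true := by decide +kernel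
theorem ordCheck2 : ((List.range 660).all (ordCheck tags2 3)) = true := by decide +kernel
theorem ordCheck3 : ((List.range 660).all (ordCheck tags3 4)) = true := by decide +kernel
theorem ordCheck4 : ((List.range 660).all (ordCheck tags4 17)) = true := by decide +kernel

/-! ### The tables consist of group elements -/

/-- Some group element has the `i`-th subgroup code. -/
def IsH (i : ℕ) (g : ↥Cfsg.Spor.J1) : Prop := i < 660 ∧ code g = tget 0 hTab i

/-- Some group element has the `j`-th representative code. -/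
def IsT (j : ℕ) (g : ↥Cfsg.Spor.J1) : Prop := j < 266 ∧ code g = tget 0 tTab j

theorem tCheck_spec {i : ℕ} (hi : i < 266) : tCheck i = true :=
  List.all_eq_true.1 tCheck_all i (List.mem_range.2 hi)

theorem hCheck_spec {i : ℕ} (hi : i < 660) : hCheck i = true :=
  List.all_eq_true.1 hCheck_all i (List.mem_range.2 hi)

theorem exists_isT : ∀ j < 266, ∃ g, IsT j g := by
  intro j
  induction j using Nat.strong_induction_on with
  | _ j ih =>
    intro hj
    rcases Nat.eq_zero_or_pos j with rfl | hp
    · exact ⟨1, hj, code_one⟩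
    · have h := tCheck_spec hj
      simp only [tCheck, Bool.and_eq_true, Bool.or_eq_true, decide_eq_true_eq, beq_iff_eq] at h
      obtain ⟨⟨⟨h, -⟩, -⟩, -⟩ := h
      obtain ⟨hlt, e⟩ := h.resolve_left (by omega)
      obtain ⟨g, -, hg⟩ := ih _ hlt (by omega)
      refine ⟨g * if (tget (0, 0) tTree j).2 = 0 then genX else genY, hj, ?_⟩
      rw [code_mul, hg, ← e]
      split_ifs <;> simp [code_genX, code_genY]

theorem exists_isH : ∀ i < 660, ∃ g, IsH i g := by
  have h12 : (∃ g, IsH 1 g) ∧ ∃ g, IsH 2 g := by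
    obtain ⟨a, -, ha⟩ := exists_isT 18 (by norm_num)
    obtain ⟨b, -, hb⟩ := exists_isT 2 (by norm_num)
    obtain ⟨c, -, hc⟩ := exists_isT 20 (by norm_num)
    obtain ⟨d, -, hd⟩ := exists_isT 17 (by norm_num)
    exact ⟨⟨a * genX * b ^ 4, by norm_num,
      by rw [code_mul, code_mul, code_pow, ha, hb, code_genX]; exact hGen_check.1⟩,
      ⟨c * genY * d ^ 18, by norm_num,
      by rw [code_mul, code_mul, code_pow, hc, hd, code_genY]; exact hGen_check.2⟩⟩
  intro i
  induction i using Nat.strong_induction_on with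
  | _ i ih =>
    intro hi
    rcases Nat.eq_zero_or_pos i with rfl | hp
    · exact ⟨1, hi, code_one.trans hOne_check.symm⟩
    · have h := hCheck_spec hi
      simp only [hCheck, Bool.and_eq_true, Bool.or_eq_true, decide_eq_true_eq, beq_iff_eq] at h
      obtain ⟨⟨h, -⟩, -⟩ := h
      obtain ⟨hlt, e⟩ := h.resolve_left (by omega)
      obtain ⟨g, -, hg⟩ := ih _ hlt (by omega)
      obtain ⟨u, -, hu⟩ := h12.1
      obtain ⟨v, -, hv⟩ := h12.2
      refine ⟨g * if (tget (0, 0) hTree i).2 = 0 then u else v, hi, ?_⟩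
      rw [code_mul, hg, ← e]
      split_ifs <;> simp [hu, hv]

theorem isH_mul : ∀ c, ∀ a g h, IsH a g → IsH c h → ∃ r, IsH r (g * h) := by
  intro c
  induction c using Nat.strong_induction_on with
  | _ c ih =>
    intro a g h hg hh
    rcases Nat.eq_zero_or_pos c with rfl | hp
    · have : h = 1 := code_injective (by rw [hh.2, hOne_check, code_one])
      exact ⟨a, by rwa [this, mul_one]⟩
    · have e := hCheck_spec hh.1
      simp only [hCheck, Bool.and_eq_true, Bool.or_eq_true, decide_eq_true_eq, beq_iff_eq] at e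
      obtain ⟨⟨e, -⟩, -⟩ := e
      obtain ⟨hlt, e⟩ := e.resolve_left (by omega)
      obtain ⟨p, hp'⟩ := exists_isH _ (hlt.trans hh.1)
      obtain ⟨q, hq⟩ := ih _ hlt a g p hg hp'
      have n := hCheck_spec hq.1
      simp only [hCheck, Bool.and_eq_true, Bool.or_eq_true, decide_eq_true_eq, beq_iff_eq] at n
      obtain ⟨⟨-, n1, e1⟩, n2, e2⟩ := n
      by_cases ht : (tget (0, 0) hTree c).2 = 0
      · obtain ⟨u, -, hu⟩ := exists_isH 1 (by norm_num)
        rw [if_pos ht] at e
        have : h = p * u := code_injective (by rw [code_mul, hp'.2, hu, e, hh.2])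
        exact ⟨_, n1, by rw [this, ← mul_assoc, code_mul, hq.2, hu, e1]⟩
      · obtain ⟨v, -, hv⟩ := exists_isH 2 (by norm_num)
        rw [if_neg ht] at e
        have : h = p * v := code_injective (by rw [code_mul, hp'.2, hv, e, hh.2])
        exact ⟨_, n2, by rw [this, ← mul_assoc, code_mul, hq.2, hv, e2]⟩

theorem exists_decomp (g : ↥Cfsg.Spor.J1) :
    ∃ a j h t, IsH a h ∧ IsT j t ∧ g = h * t := by
  haveI : Finite ↥Cfsg.Spor.J1 := Finite.of_injective
    (fun g : ↥Cfsg.Spor.J1 => ((g : GL (Fin 7) (ZMod 11)) : Matrix (Fin 7) (Fin 7) (ZMod 11)))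
    fun _ _ h => Subtype.ext (Units.ext h)
  have key : ∀ x, x ∈ Submonoid.closure ({genX, genY} : Set ↥Cfsg.Spor.J1) →
      ∃ a j h t, IsH a h ∧ IsT j t ∧ x = h * t := by
    intro x hx
    induction hx using Submonoid.closure_induction_right with
    | one => exact ⟨0, 0, 1, 1, ⟨by norm_num, code_one.trans hOne_check.symm⟩, ⟨by norm_num, code_one⟩,
        (mul_one _).symm⟩
    | mul_right x hx y hy ih =>
      obtain ⟨a, j, h, t, hh, ht, rfl⟩ := ih
      have e := tCheck_spec ht.1
      simp only [tCheck, Bool.and_eq_true, Bool.or_eq_true, decide_eq_true_eq, beq_iff_eq] at e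
      obtain ⟨⟨⟨-, ⟨hp1, hp2⟩, ex⟩, ⟨hq1, hq2⟩, ey⟩, -⟩ := e
      rcases hy with rfl | rfl
      · obtain ⟨k, hk⟩ := exists_isH _ hp1
        obtain ⟨s, hs⟩ := exists_isT _ hp2
        obtain ⟨r, hr⟩ := isH_mul _ a h k hh hk
        have : t * genX = k * s :=
          code_injective (by rw [code_mul, code_mul, ht.2, hk.2, hs.2, code_genX, ex])
        exact ⟨r, _, h * k, s, hr, hs, by rw [mul_assoc, this, mul_assoc]⟩
      · obtain ⟨k, hk⟩ := exists_isH _ hq1
        obtain ⟨s, hs⟩ := exists_isT _ hq2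
        obtain ⟨r, hr⟩ := isH_mul _ a h k hh hk
        have : t * genY = k * s :=
          code_injective (by rw [code_mul, code_mul, ht.2, hk.2, hs.2, code_genY, ey])
        exact ⟨r, _, h * k, s, hr, hs, by rw [mul_assoc, this, mul_assoc]⟩
  refine key g ?_
  rw [← Subgroup.closure_toSubmonoid_of_finite]
  have himg : Cfsg.Spor.J1.subtype '' ({genX, genY} : Set ↥Cfsg.Spor.J1) = {jankoX, jankoY} := by
    rw [Set.image_insert_eq, Set.image_singleton]; rfl
  have hmap : (Subgroup.closure ({genX, genY} : Set ↥Cfsg.Spor.J1)).map Cfsg.Spor.J1.subtype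
      = Cfsg.Spor.J1 := by
    rw [MonoidHom.map_closure, himg]; rfl
  obtain ⟨g', hg', e⟩ := hmap.symm.le g.2
  rwa [← Subtype.ext e]

theorem pow_eq_one_of_mul_comm {G : Type*} [Group G] {x y : G} {n : ℕ} (h : (y * x) ^ n = 1) :
    (x * y) ^ n = 1 := by
  have e : x * y = x * (y * x) * x⁻¹ := by group
  rw [e, conj_pow, h, mul_one, mul_inv_cancel]

/-- Every element of the first Janko group has order dividing 6, 10, 15, 7, 11 or 19. -/
theorem exists_pow_eq_one (g : ↥Cfsg.Spor.J1) : ∃ k < 6, g ^ expOfTag k = 1 ∨ g = 1 := by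
  obtain ⟨a, j, h, t, hh, ht, rfl⟩ := exists_decomp g
  have e := tCheck_spec ht.1
  simp only [tCheck, Bool.and_eq_true, Bool.or_eq_true, decide_eq_true_eq, beq_iff_eq] at e
  obtain ⟨-, ⟨⟨hA, hD⟩, hB⟩, ed⟩ := e
  obtain ⟨A, hA'⟩ := exists_isH _ hA
  obtain ⟨B, hB'⟩ := exists_isH _ hB
  have main : ∀ d, d < 266 → ∀ T : List (List ℕ), ((List.range 660).all (ordCheck T d)) = true →
      [0, 1, 3, 4, 17].getD (tget (0, 0, 0) tDouble j).2.1 0 = d →
      ∃ k < 6, (h * t) ^ expOfTag k = 1 ∨ h * t = 1 := by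
    intro d hd T hT hdj
    rw [hdj] at ed
    obtain ⟨D, hD'⟩ := exists_isT d hd
    have et : t = A * D * B := code_injective (by rw [code_mul, code_mul, hA'.2, hD'.2, hB'.2, ed, ht.2])
    obtain ⟨r, hr⟩ := isH_mul _ a h A hh hA'
    obtain ⟨r', hr'⟩ := isH_mul _ _ B (h * A) hB' hr
    have := List.all_eq_true.1 hT r' (List.mem_range.2 hr'.1)
    simp only [ordCheck, beq_iff_eq] at this
    rw [← hr'.2, ← hD'.2, ← code_mul, ← code_pow, ← code_one] at this
    have h1 := code_injective this
    rcases lt_or_ge (tget 0 T r') 6 with hk | hk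
    · refine ⟨_, hk, Or.inl ?_⟩
      rw [et, show h * (A * D * B) = h * A * D * B by simp only [mul_assoc]]
      exact pow_eq_one_of_mul_comm (by rw [← mul_assoc]; exact h1)
    · refine ⟨0, by norm_num, Or.inr ?_⟩
      rw [expOfTag, List.getD_eq_default _ _ (by simpa using hk), pow_one] at h1
      rw [et, show h * (A * D * B) = B⁻¹ * (B * (h * A) * D) * B by group, h1]
      group
  rcases hcase : (tget (0, 0, 0) tDouble j).2.1 with _ | _ | _ | _ | _ | n
  · exact main 0 (by norm_num) _ ordCheck0 (by rw [hcase]; rfl)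
  · exact main 1 (by norm_num) _ ordCheck1 (by rw [hcase]; rfl)
  · exact main 3 (by norm_num) _ ordCheck2 (by rw [hcase]; rfl)
  · exact main 4 (by norm_num) _ ordCheck3 (by rw [hcase]; rfl)
  · exact main 17 (by norm_num) _ ordCheck4 (by rw [hcase]; rfl)
  · omega

end CfsgLib.Char.J1
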