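/-
The order and the set of element orders of the first Janko group.
-/
import Cfsg.Agent.Lib.Char.J1.Cover

set_option autoImplicit false

namespace CfsgLib.Char.J1

open Cfsg.Spor

/-- The code of the product of a subgroup element and a representative. -/
def pairC (a j : ℕ) : ℕ := mulC (tget 0 hTab a) (tget 0 tTab j)

theorem exists_code_eq_pairC {a j : ℕ} (ha : a < 660) (hj : j < 266) :
    ∃ g : ↥Cfsg.Spor.J1, code g = pairC a j := by
  obtain ⟨h, hh⟩ := exists_isH a ha
  obtain ⟨t, ht⟩ := exists_isT j hj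
  exact ⟨h * t, by rw [code_mul, hh.2, ht.2]; rfl⟩

theorem exists_orderOf_eq_of_check {a j n : ℕ} (ha : a < 660) (hj : j < 266) (hn : 0 < n)
    (h : (powC (pairC a j) n == oneC &&
      (List.range n).all fun i => decide (i = 0) || !(powC (pairC a j) i == oneC)) = true) :
    ∃ g : ↥Cfsg.Spor.J1, orderOf g = n := by
  simp only [Bool.and_eq_true, beq_iff_eq, List.all_eq_true, List.mem_range, Bool.or_eq_true,
    decide_eq_true_eq, Bool.not_eq_true', beq_eq_false_iff_ne] at h
  obtain ⟨g, hg⟩ := exists_code_eq_pairC ha hj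
  refine ⟨g, (orderOf_eq_iff hn).2 ⟨code_injective (by rw [code_pow, hg, code_one, h.1]), fun i hi hi0 e => ?_⟩⟩
  rcases h.2 i hi with rfl | h2
  · exact lt_irrefl 0 hi0
  · exact h2 (by rw [← hg, ← code_pow, e, code_one])

theorem exists_orderOf_six : ∃ g : ↥Cfsg.Spor.J1, orderOf g = 6 :=
  exists_orderOf_eq_of_check (a := 22) (j := 0) (by norm_num) (by norm_num) (by norm_num) (by decide +kernel)

theorem exists_orderOf_ten : ∃ g : ↥Cfsg.Spor.J1, orderOf g = 10 :=
  exists_orderOf_eq_of_check (a := 4) (j := 1) (by norm_num) (by norm_num) (by norm_num) (by decide +kernel)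

theorem exists_orderOf_fifteen : ∃ g : ↥Cfsg.Spor.J1, orderOf g = 15 :=
  exists_orderOf_eq_of_check (a := 8) (j := 1) (by norm_num) (by norm_num) (by norm_num) (by decide +kernel)

theorem exists_orderOf_seven : ∃ g : ↥Cfsg.Spor.J1, orderOf g = 7 :=
  exists_orderOf_eq_of_check (a := 0) (j := 1) (by norm_num) (by norm_num) (by norm_num) (by decide +kernel)

theorem exists_orderOf_eleven : ∃ g : ↥Cfsg.Spor.J1, orderOf g = 11 :=
  exists_orderOf_eq_of_check (a := 4) (j := 0) (by norm_num) (by norm_num) (by norm_num) (by decide +kernel)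

theorem exists_orderOf_nineteen : ∃ g : ↥Cfsg.Spor.J1, orderOf g = 19 :=
  exists_orderOf_eq_of_check (a := 7) (j := 1) (by norm_num) (by norm_num) (by norm_num) (by decide +kernel)

theorem orderOf_dvd_exponent (g : ↥Cfsg.Spor.J1) :
    ∃ m ∈ ({6, 10, 15, 7, 11, 19} : Finset ℕ), orderOf g ∣ m := by
  obtain ⟨k, hk, h | h⟩ := exists_pow_eq_one g
  · refine ⟨expOfTag k, ?_, orderOf_dvd_of_pow_eq_one h⟩
    interval_cases k <;> decide
  · exact ⟨6, by decide, by rw [h, orderOf_one]; exact one_dvd _⟩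

/-- The element orders of the first Janko group. -/
theorem range_orderOf :
    Set.range (orderOf : ↥Cfsg.Spor.J1 → ℕ) = {1, 2, 3, 5, 6, 7, 10, 11, 15, 19} := by
  have key : ∀ m ∈ ({6, 10, 15, 7, 11, 19} : Finset ℕ), ∀ d ≤ 19, d ∣ m →
      d ∈ ({1, 2, 3, 5, 6, 7, 10, 11, 15, 19} : Finset ℕ) := by decide
  ext n
  simp only [Set.mem_range, Set.mem_insert_iff, Set.mem_singleton_iff]
  constructor
  · rintro ⟨g, rfl⟩
    obtain ⟨m, hm, hd⟩ := orderOf_dvd_exponent g
    have hm19 : m ≤ 19 := by fin_cases hm <;> norm_num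
    have := key m hm _ ((Nat.le_of_dvd (by fin_cases hm <;> norm_num) hd).trans hm19) hd
    simpa using this
  · have pw : ∀ (g : ↥Cfsg.Spor.J1) (N k : ℕ), orderOf g = N → k ∣ N → k ≠ 0 → orderOf (g ^ k) = N / k :=
      fun g N k hg hk hk0 => by rw [orderOf_pow_of_dvd hk0 (hg ▸ hk), hg]
    obtain ⟨a, ha⟩ := exists_orderOf_six
    obtain ⟨b, hb⟩ := exists_orderOf_ten
    obtain ⟨c, hc⟩ := exists_orderOf_fifteen
    rintro (rfl | rfl | rfl | rfl | rfl | rfl | rfl | rfl | rfl | rfl)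
    · exact ⟨1, orderOf_one⟩
    · exact ⟨a ^ 3, pw a 6 3 ha (by norm_num) (by norm_num)⟩
    · exact ⟨a ^ 2, pw a 6 2 ha (by norm_num) (by norm_num)⟩
    · exact ⟨b ^ 2, pw b 10 2 hb (by norm_num) (by norm_num)⟩
    · exact ⟨a, ha⟩
    · exact exists_orderOf_seven
    · exact ⟨b, hb⟩
    · exact exists_orderOf_eleven
    · exact ⟨c, hc⟩
    · exact exists_orderOf_nineteen

/-- Codes of an elementary abelian subgroup of order 8. -/
def eightC (p : ZMod 2 × ZMod 2 × ZMod 2) : ℕ :=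
  mulC (mulC (powC (pairC 0 135) p.1.val) (powC (pairC 0 227) p.2.1.val)) (powC (pairC 320 42) p.2.2.val)

theorem eightC_mul : ∀ p q : ZMod 2 × ZMod 2 × ZMod 2, mulC (eightC p) (eightC q) = eightC (p + q) := by
  decide +kernel

theorem eightC_injective : ∀ p q : ZMod 2 × ZMod 2 × ZMod 2, eightC p = eightC q → p = q := by
  decide +kernel

theorem eight_dvd_card : 8 ∣ Nat.card ↥Cfsg.Spor.J1 := by
  obtain ⟨x, hx⟩ := exists_code_eq_pairC (a := 0) (j := 135) (by norm_num) (by norm_num)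
  obtain ⟨y, hy⟩ := exists_code_eq_pairC (a := 0) (j := 227) (by norm_num) (by norm_num)
  obtain ⟨z, hz⟩ := exists_code_eq_pairC (a := 320) (j := 42) (by norm_num) (by norm_num)
  have hf : ∀ p : ZMod 2 × ZMod 2 × ZMod 2, code (x ^ p.1.val * y ^ p.2.1.val * z ^ p.2.2.val) = eightC p :=
    fun p => by rw [code_mul, code_mul, code_pow, code_pow, code_pow, hx, hy, hz]; rfl
  let φ : Multiplicative (ZMod 2 × ZMod 2 × ZMod 2) →* ↥Cfsg.Spor.J1 :=
    MonoidHom.mk' (fun p => x ^ p.toAdd.1.val * y ^ p.toAdd.2.1.val * z ^ p.toAdd.2.2.val)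
      (fun p q => code_injective (by
        refine (hf _).trans ?_
        rw [code_mul, hf, hf, eightC_mul]; rfl))
  have hφ : Function.Injective φ := by
    intro p q h
    have := congrArg code h
    simp only [φ, MonoidHom.mk'_apply, hf] at this
    exact Multiplicative.toAdd.injective (eightC_injective _ _ this)
  have := Subgroup.card_dvd_of_injective φ hφ
  simpa using this

theorem card_le : Nat.card ↥Cfsg.Spor.J1 ≤ 175560 := by
  choose eH hH using exists_isH
  choose eT hT using exists_isT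
  have hs : Function.Surjective
      (fun p : Fin 660 × Fin 266 => eH p.1 p.1.isLt * eT p.2 p.2.isLt) := fun g => by
    obtain ⟨a, j, h, t, hh, ht, rfl⟩ := exists_decomp g
    refine ⟨(⟨a, hh.1⟩, ⟨j, ht.1⟩), code_injective ?_⟩
    rw [code_mul, code_mul, (hH a hh.1).2, (hT j ht.1).2, hh.2, ht.2]
  have := Nat.card_le_card_of_surjective _ hs
  simpa using this

/-- The first Janko group has order 175560. -/
theorem card_eq : Nat.card ↥Cfsg.Spor.J1 = 175560 := by
  haveI : Finite ↥Cfsg.Spor.J1 := Finite.of_injective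
    (fun g : ↥Cfsg.Spor.J1 => ((g : GL (Fin 7) (ZMod 11)) : Matrix (Fin 7) (Fin 7) (ZMod 11)))
    fun _ _ h => Subtype.ext (Units.ext h)
  obtain ⟨c, hc⟩ := exists_orderOf_fifteen
  obtain ⟨d, hd⟩ := exists_orderOf_seven
  obtain ⟨e, he⟩ := exists_orderOf_eleven
  obtain ⟨f, hf⟩ := exists_orderOf_nineteen
  have h15 : 15 ∣ Nat.card ↥Cfsg.Spor.J1 := hc ▸ orderOf_dvd_natCard c
  have h7 : 7 ∣ Nat.card ↥Cfsg.Spor.J1 := by
    have := orderOf_dvd_natCard d; rwa [hd] at this
  have h11 : 11 ∣ Nat.card ↥Cfsg.Spor.J1 := by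
    have := orderOf_dvd_natCard e; rwa [he] at this
  have h19 : 19 ∣ Nat.card ↥Cfsg.Spor.J1 := by
    have := orderOf_dvd_natCard f; rwa [hf] at this
  have hpos : 0 < Nat.card ↥Cfsg.Spor.J1 := Nat.card_pos
  have := card_le
  have hdvd : 175560 ∣ Nat.card ↥Cfsg.Spor.J1 := by
    have := Nat.Coprime.mul_dvd_of_dvd_of_dvd (by norm_num : Nat.Coprime 8 15) eight_dvd_card h15
    have := Nat.Coprime.mul_dvd_of_dvd_of_dvd (by norm_num : Nat.Coprime (8 * 15) 7) this h7
    have := Nat.Coprime.mul_dvd_of_dvd_of_dvd (by norm_num : Nat.Coprime (8 * 15 * 7) 11) this h11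
    have := Nat.Coprime.mul_dvd_of_dvd_of_dvd (by norm_num : Nat.Coprime (8 * 15 * 7 * 11) 19) this h19
    simpa using this
  exact le_antisymm card_le (Nat.le_of_dvd hpos hdvd)

end CfsgLib.Char.J1
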