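/-
Simplicity, an involution centralizer and the automorphisms of the first Janko group.
-/
import Cfsg.Agent.Lib.Char.J1.Spectrum
import Cfsg.Agent.Lib.Char.J1.StructureData
import Cfsg.Prelude.Def_Sporadic
import Cfsg.Prelude.Def_KGroupFacts

set_option autoImplicit false
set_option maxRecDepth 4000

namespace CfsgLib.Char.J1

open Cfsg.Spor Subgroup

theorem finite_J1 : Finite ↥Cfsg.Spor.J1 := Finite.of_injective
  (fun g : ↥Cfsg.Spor.J1 => ((g : GL (Fin 7) (ZMod 11)) : Matrix (Fin 7) (Fin 7) (ZMod 11)))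
  fun _ _ h => Subtype.ext (Units.ext h)

attribute [local instance] finite_J1

/-- The element with the given subgroup and representative indices. -/
noncomputable def pairE (a j : ℕ) : ↥Cfsg.Spor.J1 :=
  if h : a < 660 ∧ j < 266 then (exists_code_eq_pairC h.1 h.2).choose else 1

theorem code_pairE {a j : ℕ} (ha : a < 660) (hj : j < 266) : code (pairE a j) = pairC a j := by
  rw [pairE, dif_pos ⟨ha, hj⟩]
  exact (exists_code_eq_pairC ha hj).choose_spec

theorem pairE_bijective :
    Function.Bijective fun p : Fin 660 × Fin 266 => pairE p.1 p.2 := by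
  rw [Nat.bijective_iff_surjective_and_card]
  refine ⟨fun g => ?_, by rw [card_eq, Nat.card_prod, Nat.card_fin, Nat.card_fin]⟩
  obtain ⟨a, j, h, t, hh, ht, rfl⟩ := exists_decomp g
  refine ⟨(⟨a, hh.1⟩, ⟨j, ht.1⟩), code_injective ?_⟩
  show code (pairE a j) = _
  rw [code_pairE hh.1 ht.1, code_mul, hh.2, ht.2]
  rfl

theorem pairE_inj {a j a' j' : ℕ} (ha : a < 660) (hj : j < 266) (ha' : a' < 660) (hj' : j' < 266)
    (h : pairE a j = pairE a' j') : a = a' ∧ j = j' := by
  have := @pairE_bijective.1 (⟨a, ha⟩, ⟨j, hj⟩) (⟨a', ha'⟩, ⟨j', hj'⟩) h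
  simpa using this

theorem code_eq_one_iff {g : ↥Cfsg.Spor.J1} : code g = oneC ↔ g = 1 :=
  ⟨fun h => code_injective (h.trans code_one.symm), fun h => h ▸ code_one⟩

theorem eq_one_iff_pow {g : ↥Cfsg.Spor.J1} {n : ℕ} : powC (code g) n = oneC ↔ g ^ n = 1 := by
  rw [← code_pow, code_eq_one_iff]

/-! ### The elementary abelian subgroup of order eight -/

/-- The elements of an elementary abelian subgroup of order eight. -/
noncomputable def eightE (p : ZMod 2 × ZMod 2 × ZMod 2) : ↥Cfsg.Spor.J1 :=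
  pairE 0 135 ^ p.1.val * pairE 0 227 ^ p.2.1.val * pairE 320 42 ^ p.2.2.val

theorem code_eightE (p : ZMod 2 × ZMod 2 × ZMod 2) : code (eightE p) = eightC p := by
  rw [eightE, code_mul, code_mul, code_pow, code_pow, code_pow, code_pairE (by norm_num) (by norm_num),
    code_pairE (by norm_num) (by norm_num), code_pairE (by norm_num) (by norm_num)]
  rfl

/-- The elementary abelian subgroup of order eight as a homomorphic image. -/
noncomputable def eightHom : Multiplicative (ZMod 2 × ZMod 2 × ZMod 2) →* ↥Cfsg.Spor.J1 :=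
  MonoidHom.mk' (fun p => eightE p.toAdd) fun p q => code_injective (by
    rw [code_mul, code_eightE, code_eightE, code_eightE, eightC_mul]; rfl)

theorem eightHom_injective : Function.Injective eightHom := fun p q h => by
  have := congrArg code h
  simp only [eightHom, MonoidHom.mk'_apply, code_eightE] at this
  exact Multiplicative.toAdd.injective (eightC_injective _ _ this)

/-- The central involution of the centralizer under consideration. -/
noncomputable def tInv : ↥Cfsg.Spor.J1 := pairE 320 42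

theorem code_tInv : code tInv = pairC 320 42 := code_pairE (by norm_num) (by norm_num)

theorem orderOf_tInv : orderOf tInv = 2 := by
  haveI : Fact (Nat.Prime 2) := ⟨Nat.prime_two⟩
  refine orderOf_eq_prime ?_ ?_
  · rw [← eq_one_iff_pow, code_tInv]; decide +kernel
  · rw [Ne, ← code_eq_one_iff, code_tInv]; decide +kernel

/-- The seven nonzero vectors in the order of the cycle induced by the first generator. -/
def sevenPts : List (ZMod 2 × ZMod 2 × ZMod 2) :=
  [(0, 0, 1), (1, 0, 1), (0, 1, 1), (0, 1, 0), (1, 1, 1), (1, 0, 0), (1, 1, 0)]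

theorem seven_check : ∀ i : Fin 6,
    mulC xC (eightC (sevenPts.getD i 0)) = mulC (eightC (sevenPts.getD (i + 1) 0)) xC := by
  decide +kernel

theorem seven_cover : ∀ p : ZMod 2 × ZMod 2 × ZMod 2, p ≠ 0 → ∃ i : Fin 7, sevenPts.getD i 0 = p := by decide

theorem eightE_first : eightE (0, 0, 1) = tInv := code_injective (by
  rw [code_eightE, code_tInv]; decide +kernel)

theorem isConj_seven : ∀ i < 7, IsConj tInv (eightE (sevenPts.getD i 0)) := by
  intro i
  induction i with
  | zero => intro _; rw [show sevenPts.getD 0 0 = (0, 0, 1) from rfl, eightE_first]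
  | succ k ih =>
    intro hk
    refine (ih (by omega)).trans (isConj_iff.2 ⟨genX, code_injective ?_⟩)
    have e := seven_check ⟨k, by omega⟩
    have h1 : genX * eightE (sevenPts.getD k 0) = eightE (sevenPts.getD (k + 1) 0) * genX :=
      code_injective (by rw [code_mul, code_mul, code_eightE, code_eightE, code_genX]; exact e)
    rw [h1, mul_inv_cancel_right]

theorem isConj_tInv {g : ↥Cfsg.Spor.J1} (hg : orderOf g = 2) : IsConj tInv g := by
  haveI : Fact (Nat.Prime 2) := ⟨Nat.prime_two⟩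
  have hf : (175560 : ℕ).factorization 2 = 3 := by
    rw [show (175560 : ℕ) = 2 ^ 3 * 21945 from rfl, Nat.factorization_mul (by norm_num) (by norm_num),
      Nat.prime_two.factorization_pow, Finsupp.add_apply, Finsupp.single_eq_same,
      Nat.factorization_eq_zero_of_not_dvd (by norm_num)]
  let P : Sylow 2 ↥Cfsg.Spor.J1 := Sylow.ofCard eightHom.range (by
    rw [card_eq, hf, ← Nat.card_congr (MonoidHom.ofInjective eightHom_injective).toEquiv]
    simp)
  have hz : IsPGroup 2 (zpowers g) := IsPGroup.of_card (n := 1) (by rw [Nat.card_zpowers, hg, pow_one])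
  obtain ⟨Q, hQ⟩ := hz.exists_le_sylow
  obtain ⟨k, hk⟩ := MulAction.exists_smul_eq ↥Cfsg.Spor.J1 P Q
  have hmem : g ∈ (k • P : Sylow 2 ↥Cfsg.Spor.J1).toSubgroup := hk ▸ hQ (mem_zpowers g)
  rw [Sylow.smul_def, Sylow.pointwise_smul_def, Subgroup.mem_pointwise_smul_iff_inv_smul_mem] at hmem
  have hmem' : k⁻¹ * g * k ∈ eightHom.range := by
    simpa [MulAut.smul_def, P] using hmem
  obtain ⟨p, hp⟩ := hmem'
  have hp1 : p.toAdd ≠ 0 := fun e => by
    have : p = 1 := Multiplicative.toAdd.injective e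
    rw [this, map_one] at hp
    have hg1 : g = 1 := by
      have h' := congrArg (fun w => k * w * k⁻¹) hp.symm
      simpa [mul_assoc] using h'
    rw [hg1, orderOf_one] at hg
    omega
  obtain ⟨i, hi⟩ := seven_cover _ hp1
  refine (isConj_seven i i.isLt).trans (isConj_iff.2 ⟨k, ?_⟩)
  have e : eightHom p = eightE p.toAdd := rfl
  rw [hi, ← e, hp]
  group

/-! ### The centralizer -/

/-- The key of a permutation of five points. -/
def fiveKey (s : alternatingGroup (Fin 5)) : ℕ :=
  (s.1 0).val * 125 + (s.1 1).val * 25 + (s.1 2).val * 5 + (s.1 3).val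

/-- The indices attached to a permutation. -/
def fiveIdx (s : alternatingGroup (Fin 5)) : ℕ × ℕ :=
  ((fiveTab.find? fun x => x.1 == fiveKey s).getD (0, 700, 700)).2

/-- The code attached to a permutation. -/
def fiveC (s : alternatingGroup (Fin 5)) : ℕ := pairC (fiveIdx s).1 (fiveIdx s).2

theorem five_range : ∀ s, (fiveIdx s).1 < 660 ∧ (fiveIdx s).2 < 266 := by decide +kernel

theorem five_mul : ∀ s u, mulC (fiveC s) (fiveC u) = fiveC (s * u) := by decide +kernel

theorem five_one : ∀ s, fiveC s = oneC → s = 1 := by decide +kernel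

theorem five_comm : ∀ s, mulC (fiveC s) (pairC 320 42) = mulC (pairC 320 42) (fiveC s) ∧
    fiveC s ≠ pairC 320 42 := by decide +kernel

/-- The alternating group in the centralizer. -/
noncomputable def fiveHom : alternatingGroup (Fin 5) →* ↥Cfsg.Spor.J1 :=
  MonoidHom.mk' (fun s => pairE (fiveIdx s).1 (fiveIdx s).2) fun s u => code_injective (by
    rw [code_mul, code_pairE (five_range _).1 (five_range _).2, code_pairE (five_range _).1 (five_range _).2,
      code_pairE (five_range _).1 (five_range _).2]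
    exact (five_mul s u).symm)

theorem code_fiveHom (s : alternatingGroup (Fin 5)) : code (fiveHom s) = fiveC s :=
  code_pairE (five_range s).1 (five_range s).2

theorem fiveHom_mem (s : alternatingGroup (Fin 5)) : fiveHom s ∈ centralizer ({tInv} : Set ↥Cfsg.Spor.J1) :=
  mem_centralizer_singleton_iff.2 (code_injective (by
    rw [code_mul, code_mul, code_fiveHom, code_tInv]; exact (five_comm s).1))

/-- The map onto the centralizer. -/
noncomputable def centHom :
    Multiplicative (ZMod 2) × alternatingGroup (Fin 5) →* ↥(centralizer ({tInv} : Set ↥Cfsg.Spor.J1)) :=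
  MonoidHom.mk' (fun q => ⟨tInv ^ q.1.toAdd.val * fiveHom q.2,
      mul_mem (pow_mem (mem_centralizer_singleton_iff.2 rfl) _) (fiveHom_mem q.2)⟩) fun q r => Subtype.ext (by
    show tInv ^ (q.1.toAdd + r.1.toAdd).val * fiveHom (q.2 * r.2) =
      tInv ^ q.1.toAdd.val * fiveHom q.2 * (tInv ^ r.1.toAdd.val * fiveHom r.2)
    have hc : Commute (fiveHom q.2) (tInv ^ r.1.toAdd.val) :=
      (show Commute (fiveHom q.2) tInv from mem_centralizer_singleton_iff.1 (fiveHom_mem q.2)).pow_right _
    rw [mul_assoc, ← mul_assoc (fiveHom q.2), hc.eq, mul_assoc, ← map_mul, ← mul_assoc, ← pow_add]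
    congr 1
    rw [pow_eq_pow_iff_modEq, orderOf_tInv, ZMod.val_add]
    exact Nat.mod_modEq _ _)

theorem centHom_injective : Function.Injective centHom := by
  rw [injective_iff_map_eq_one]
  rintro ⟨k, s⟩ h
  have h' : tInv ^ k.toAdd.val * fiveHom s = 1 := congrArg Subtype.val h
  have hk := ZMod.val_lt k.toAdd
  interval_cases hv : k.toAdd.val
  · rw [pow_zero, one_mul, ← code_eq_one_iff, code_fiveHom] at h'
    exact Prod.ext (Multiplicative.toAdd.injective ((ZMod.val_eq_zero _).1 hv)) (five_one s h')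
  · exfalso
    rw [pow_one, mul_eq_one_iff_inv_eq, inv_eq_of_mul_eq_one_right
      (show tInv * tInv = 1 by rw [← pow_two, ← orderOf_tInv, pow_orderOf_eq_one])] at h'
    have := congrArg code h'
    rw [code_tInv, code_fiveHom] at this
    exact (five_comm s).2 this.symm

theorem orderOf_ne {g : ↥Cfsg.Spor.J1} {n : ℕ} (hn : n = 14 ∨ n = 22 ∨ n = 38) : orderOf g ≠ n := by
  intro h
  have : orderOf g ∈ Set.range (orderOf : ↥Cfsg.Spor.J1 → ℕ) := ⟨g, rfl⟩
  rw [range_orderOf, h] at this
  rcases hn with rfl | rfl | rfl <;> simp at this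

theorem card_centralizer_tInv : Nat.card (centralizer ({tInv} : Set ↥Cfsg.Spor.J1)) = 120 := by
  set C := centralizer ({tInv} : Set ↥Cfsg.Spor.J1)
  have hlow : 120 ∣ Nat.card C := by
    have h := Subgroup.card_dvd_of_injective centHom centHom_injective
    have e : Nat.card (Multiplicative (ZMod 2) × alternatingGroup (Fin 5)) = 120 := by
      rw [Nat.card_eq_fintype_card]; decide +kernel
    rwa [e] at h
  have hno : ∀ p : ℕ, p.Prime → (p = 7 ∨ p = 11 ∨ p = 19) → ¬ p ∣ Nat.card C := by
    intro p hp hcases hd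
    haveI := Fact.mk hp
    obtain ⟨g, hg⟩ := exists_prime_orderOf_dvd_card' p hd
    have hc : Commute (g : ↥Cfsg.Spor.J1) tInv := mem_centralizer_singleton_iff.1 g.2
    have hg' : orderOf (g : ↥Cfsg.Spor.J1) = p := by rw [Subgroup.orderOf_coe, hg]
    have hord : orderOf ((g : ↥Cfsg.Spor.J1) * tInv) = p * 2 := by
      rw [hc.orderOf_mul_eq_mul_orderOf_of_coprime (by
        rw [hg', orderOf_tInv]; rcases hcases with rfl | rfl | rfl <;> norm_num), hg', orderOf_tInv]
    exact orderOf_ne (by rcases hcases with rfl | rfl | rfl <;> norm_num) hord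
  have hdvd : Nat.card C ∣ 175560 := card_eq ▸ Subgroup.card_subgroup_dvd_card C
  obtain ⟨k, hk⟩ := hlow
  rw [hk] at hdvd hno ⊢
  have hk' : k ∣ 7 * 11 * 19 := Nat.dvd_of_mul_dvd_mul_left (by norm_num) (show 120 * k ∣ 120 * (7 * 11 * 19) from hdvd)
  have h7 : Nat.Coprime k 7 := Nat.Coprime.symm ((Nat.Prime.coprime_iff_not_dvd (by norm_num)).2 fun h =>
    hno 7 (by norm_num) (Or.inl rfl) (h.mul_left _))
  have h11 : Nat.Coprime k 11 := Nat.Coprime.symm ((Nat.Prime.coprime_iff_not_dvd (by norm_num)).2 fun h =>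
    hno 11 (by norm_num) (Or.inr (Or.inl rfl)) (h.mul_left _))
  have h19 : Nat.Coprime k 19 := Nat.Coprime.symm ((Nat.Prime.coprime_iff_not_dvd (by norm_num)).2 fun h =>
    hno 19 (by norm_num) (Or.inr (Or.inr rfl)) (h.mul_left _))
  rw [Nat.eq_one_of_dvd_coprimes (Nat.Coprime.mul_right (Nat.Coprime.mul_right h7 h11) h19) dvd_rfl hk', mul_one]

/-- An involution centralizer of the first Janko group is the double of an alternating group. -/
theorem centralizer_iso : Nonempty (↥(centralizer ({tInv} : Set ↥Cfsg.Spor.J1)) ≃*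
    Multiplicative (ZMod 2) × ↥(alternatingGroup (Fin 5))) := by
  refine ⟨(MulEquiv.ofBijective centHom ((Nat.bijective_iff_injective_and_card _).2 ⟨centHom_injective, ?_⟩)).symm⟩
  rw [card_centralizer_tInv, Nat.card_eq_fintype_card]
  decide +kernel

/-! ### Simplicity -/

/-- The involution whose product with the second factor is the first generator. -/
noncomputable def genA : ↥Cfsg.Spor.J1 := pairE 34 71

theorem code_genA : code genA = pairC 34 71 := code_pairE (by norm_num) (by norm_num)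

theorem genY_eq : genY = genA * genX ^ 3 * (genA * genX) ^ 3 * (genA * genX ^ 3) * (genA * genX) ^ 2 :=
  code_injective (by
    simp only [code_mul, code_pow, code_genA, code_genX, code_genY]
    decide +kernel)

theorem closure_gens : Subgroup.closure ({genX, genY} : Set ↥Cfsg.Spor.J1) = ⊤ := by
  have himg : Cfsg.Spor.J1.subtype '' ({genX, genY} : Set ↥Cfsg.Spor.J1) = {jankoX, jankoY} := by
    rw [Set.image_insert_eq, Set.image_singleton]; rfl
  have hmap : (Subgroup.closure ({genX, genY} : Set ↥Cfsg.Spor.J1)).map Cfsg.Spor.J1.subtype = Cfsg.Spor.J1 := by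
    rw [MonoidHom.map_closure, himg]; rfl
  refine eq_top_iff.2 fun g _ => ?_
  obtain ⟨g', hg', e⟩ := hmap.symm.le g.2
  rwa [← Subtype.ext e]

theorem genY_mem {K : Subgroup ↥Cfsg.Spor.J1} (hX : genX ∈ K) (hA : genA ∈ K) : genY ∈ K := by
  rw [genY_eq]
  exact mul_mem (mul_mem (mul_mem (mul_mem hA (pow_mem hX 3)) (pow_mem (mul_mem hA hX) 3))
    (mul_mem hA (pow_mem hX 3))) (pow_mem (mul_mem hA hX) 2)

theorem eq_top_of_gens {K : Subgroup ↥Cfsg.Spor.J1} (hX : genX ∈ K) (hA : genA ∈ K) : K = ⊤ := by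
  rw [eq_top_iff, ← closure_gens, closure_le]
  rintro _ (rfl | rfl)
  exacts [hX, genY_mem hX hA]

theorem orderOf_pairE {a j : ℕ} (ha : a < 660) (hj : j < 266) (h : (powC (pairC a j) 2 == oneC) = true)
    (h1 : (pairC a j == oneC) = false) : orderOf (pairE a j) = 2 := by
  haveI : Fact (Nat.Prime 2) := ⟨Nat.prime_two⟩
  refine orderOf_eq_prime ?_ ?_
  · rw [← eq_one_iff_pow, code_pairE ha hj]; exact beq_iff_eq.1 h
  · rw [Ne, ← code_eq_one_iff, code_pairE ha hj]; exact beq_eq_false_iff_ne.1 h1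

theorem genA_order : orderOf genA = 2 :=
  orderOf_pairE (by norm_num) (by norm_num) (by decide +kernel) (by decide +kernel)

theorem five_simple_facts : IsSimpleGroup (alternatingGroup (Fin 5)) ∧
    Even (Nat.card (alternatingGroup (Fin 5))) := by
  refine ⟨alternatingGroup.isSimpleGroup_five, ?_⟩
  rw [Nat.card_eq_fintype_card, show Fintype.card (alternatingGroup (Fin 5)) = 60 by decide +kernel]
  decide

theorem fixes_aux {G A : Type*} [Group G] [Finite G] [Group A] [Finite A] (hA : IsSimpleGroup A)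
    (hev : Even (Nat.card A)) {C : Subgroup G} (e : C ≃* Multiplicative (ZMod 2) × A) (N : Subgroup G) [N.Normal]
    (hodd : Odd (Nat.card N)) {x : G} (hxN : x ∈ N) (hxC : x ∈ C) : x = 1 := by
  set M := (N.subgroupOf C).map e.toMonoidHom with hM
  have hMn : M.Normal := (inferInstance : (N.subgroupOf C).Normal).map _ e.surjective
  have hMo : Odd (Nat.card M) := by
    rw [hM, ← Nat.card_congr ((N.subgroupOf C).equivMapOfInjective e.toMonoidHom e.injective).toEquiv]
    exact hodd.of_dvd_nat (Subgroup.card_comap_dvd_of_injective N _ (Subgroup.subtype_injective _))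
  obtain ⟨S, hS⟩ : ∃ S, S = M.map (MonoidHom.snd (Multiplicative (ZMod 2)) A) := ⟨_, rfl⟩
  have hSd : Nat.card S ∣ Nat.card M := by
    rw [hS]; exact Subgroup.card_map_dvd M (MonoidHom.snd (Multiplicative (ZMod 2)) A)
  have hSbot : S = ⊥ := by
    rcases (hS ▸ hMn.map _ (fun s => ⟨(1, s), rfl⟩) : S.Normal).eq_bot_or_eq_top with h | h
    · exact h
    · exfalso
      rw [h, Subgroup.card_top] at hSd
      exact Nat.not_even_iff_odd.2 hMo (hev.trans_dvd hSd)
  obtain ⟨q, hq⟩ : ∃ q, q = e ⟨x, hxC⟩ := ⟨_, rfl⟩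
  have hmem : q ∈ M := hq ▸ ⟨⟨x, hxC⟩, hxN, rfl⟩
  have h2 : q.2 = 1 := by
    have : q.2 ∈ S := hS ▸ ⟨q, hmem, rfl⟩
    rwa [hSbot, Subgroup.mem_bot] at this
  have hsq : q ^ 2 = 1 := by
    refine Prod.ext ?_ (by rw [Prod.pow_snd, h2, one_pow]; rfl)
    rw [Prod.pow_fst]
    generalize q.1 = z
    show z ^ 2 = 1
    revert z; decide
  have hx2 : x ^ 2 = 1 := by
    rw [hq, ← map_pow, ← map_one e, e.injective.eq_iff] at hsq
    exact congrArg Subtype.val hsq
  have hox : orderOf x ∣ Nat.card N := Subgroup.orderOf_mk x hxN ▸ orderOf_dvd_natCard _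
  have := Nat.dvd_gcd (orderOf_dvd_of_pow_eq_one hx2) hox
  rw [(Nat.coprime_two_left.2 hodd).gcd_eq_one, Nat.dvd_one, orderOf_eq_one_iff] at this
  exact this

theorem fixes_trivial {N : Subgroup ↥Cfsg.Spor.J1} [N.Normal] (hodd : Odd (Nat.card N)) {x : ↥Cfsg.Spor.J1}
    (hxN : x ∈ N) (hx : x * tInv = tInv * x) : x = 1 :=
  fixes_aux five_simple_facts.1 five_simple_facts.2 centralizer_iso.some N hodd hxN
    (mem_centralizer_singleton_iff.2 hx)

theorem inverts {N : Subgroup ↥Cfsg.Spor.J1} [N.Normal] (hodd : Odd (Nat.card N)) {u : ↥Cfsg.Spor.J1}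
    (hu : orderOf u = 2) {x : ↥Cfsg.Spor.J1} (hx : x ∈ N) : u * x * u⁻¹ = x⁻¹ := by
  obtain ⟨k, hk⟩ := isConj_iff.1 (isConj_tInv hu)
  have hfix : ∀ y ∈ N, u * y = y * u → y = 1 := fun y hy hc => by
    have h1 : k⁻¹ * y * k = 1 := fixes_trivial hodd (by simpa using (inferInstance : N.Normal).conj_mem y hy k⁻¹) (by
      rw [show tInv = k⁻¹ * u * k by rw [← hk]; group,
        show k⁻¹ * y * k * (k⁻¹ * u * k) = k⁻¹ * (y * u) * k by group, ← hc]
      group)
    have h' := congrArg (fun w => k * w * k⁻¹) h1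
    simpa [mul_assoc] using h'
  let φ : ↥N →* ↥N :=
    { toFun := fun y => ⟨u * y * u⁻¹, (inferInstance : N.Normal).conj_mem y.1 y.2 u⟩
      map_one' := Subtype.ext (by simp)
      map_mul' := fun y z => Subtype.ext (by simp [mul_assoc]) }
  have huu : u * u = 1 := by rw [← pow_two, ← hu, pow_orderOf_eq_one]
  have hinvol : Function.Involutive φ := fun y => Subtype.ext (by
    show u * (u * y * u⁻¹) * u⁻¹ = y
    rw [show u * (u * (y : ↥Cfsg.Spor.J1) * u⁻¹) * u⁻¹ = (u * u) * y * (u * u)⁻¹ by group, huu]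
    group)
  have hff : MonoidHom.FixedPointFree φ := fun y hy => Subtype.ext (hfix y y.2 (by
    have : u * (y : ↥Cfsg.Spor.J1) * u⁻¹ = y := congrArg Subtype.val hy
    exact mul_inv_eq_iff_eq_mul.1 this))
  have := congrFun (hff.coe_eq_inv_of_involutive hinvol) ⟨x, hx⟩
  exact congrArg Subtype.val this

theorem simple_J1 : IsSimpleGroup ↥Cfsg.Spor.J1 := by
  haveI : Nontrivial ↥Cfsg.Spor.J1 := Finite.one_lt_card_iff_nontrivial.1 (by rw [card_eq]; norm_num)
  refine ⟨fun N hN => ?_⟩
  haveI := hN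
  rcases Nat.even_or_odd (Nat.card N) with he | ho
  · right
    haveI : Fact (Nat.Prime 2) := ⟨Nat.prime_two⟩
    obtain ⟨v, hv⟩ := exists_prime_orderOf_dvd_card' 2 (even_iff_two_dvd.1 he)
    have hall : ∀ g : ↥Cfsg.Spor.J1, orderOf g = 2 → g ∈ N := fun g hg => by
      obtain ⟨k, hk⟩ := isConj_iff.1
        ((isConj_tInv (show orderOf (v : ↥Cfsg.Spor.J1) = 2 by rw [Subgroup.orderOf_coe, hv])).symm.trans
          (isConj_tInv hg))
      exact hk ▸ hN.conj_mem _ v.2 k
    refine eq_top_of_gens ?_ (hall _ genA_order)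
    have e : genX = pairE 1 111 * pairE 320 10 := code_injective (by
      rw [code_mul, code_pairE (by norm_num) (by norm_num), code_pairE (by norm_num) (by norm_num), code_genX]
      decide +kernel)
    rw [e]
    exact mul_mem (hall _ (orderOf_pairE (by norm_num) (by norm_num) (by decide +kernel) (by decide +kernel)))
      (hall _ (orderOf_pairE (by norm_num) (by norm_num) (by decide +kernel) (by decide +kernel)))
  · left
    have horder : ∀ p : ZMod 2 × ZMod 2 × ZMod 2, p ≠ 0 → orderOf (eightE p) = 2 := fun p hp => by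
      obtain ⟨i, hi⟩ := seven_cover p hp
      rw [← hi]
      obtain ⟨c, hc⟩ := isConj_iff.1 (isConj_seven i i.isLt)
      rw [← hc, ← orderOf_tInv]
      exact MulEquiv.orderOf_eq (MulAut.conj c) tInv
    refine eq_bot_iff.2 fun x hx => mem_bot.2 ?_
    have e1 := inverts ho (horder (1, 0, 0) (by decide)) hx
    have e2 := inverts ho (horder (0, 1, 0) (by decide)) (inv_mem hx)
    have e3 := inverts ho (horder (1, 1, 0) (by decide)) hx
    rw [inv_inv] at e2
    have hmul : eightE (0, 1, 0) * eightE (1, 0, 0) = eightE (1, 1, 0) := code_injective (by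
      rw [code_mul, code_eightE, code_eightE, code_eightE, eightC_mul]; rfl)
    rw [← e1, ← conj_mul] at e2
    rw [← hmul] at e3
    have hxx : x = x⁻¹ := by
      conv_lhs => rw [← e2]
      rw [← e3]
      simp [mul_assoc]
    have h2 : orderOf x ∣ 2 := orderOf_dvd_of_pow_eq_one (by rw [pow_two]; exact eq_inv_iff_mul_eq_one.1 hxx)
    have hox : orderOf x ∣ Nat.card N := Subgroup.orderOf_mk x hx ▸ orderOf_dvd_natCard _
    have := Nat.dvd_gcd h2 hox
    rwa [(Nat.coprime_two_left.2 ho).gcd_eq_one, Nat.dvd_one, orderOf_eq_one_iff] at this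

/-! ### Automorphisms -/

/-- The check of the list of involutions. -/
def invCheck (p : ℕ × ℕ) : Bool :=
  let w := pairC p.1 p.2
  decide (p.1 < 660) && decide (p.2 < 266) && (powC w 2 == oneC) && !(w == oneC) &&
    (!(powC (mulC w (powC xC 3)) 5 == oneC) || !(powC (mulC w xC) 15 == oneC) || orbitTab.contains p)

theorem invCheck_all : invTab.all (fun c => c.all invCheck) = true := by decide +kernel

theorem invTab_sorted :
    (invTab.flatten.map fun p => p.1 * 266 + p.2).Pairwise (· < ·) ∧ invTab.flatten.length = 1463 := by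
  refine ⟨List.isChain_iff_pairwise.1 ?_, ?_⟩ <;> decide +kernel

theorem mem_invTab {g : ↥Cfsg.Spor.J1} (hg : orderOf g = 2) : ∃ p ∈ invTab.flatten, pairE p.1 p.2 = g := by
  classical
  haveI := Fintype.ofFinite ↥Cfsg.Spor.J1
  have hchk : ∀ p ∈ invTab.flatten, invCheck p = true := fun p hp => by
    obtain ⟨c, hc, hpc⟩ := List.mem_flatten.1 hp
    exact List.all_eq_true.1 (List.all_eq_true.1 invCheck_all c hc) p hpc
  have hlt : ∀ p ∈ invTab.flatten, p.1 < 660 ∧ p.2 < 266 := fun p hp => by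
    have := hchk p hp
    simp only [invCheck, Bool.and_eq_true, decide_eq_true_eq] at this
    exact this.1.1.1
  let L := (invTab.flatten.map fun p => pairE p.1 p.2).toFinset
  have hL : L.card = 1463 := by
    rw [List.toFinset_card_of_nodup, List.length_map, invTab_sorted.2]
    refine List.Nodup.map_on (fun p hp q hq e => ?_) ?_
    · obtain ⟨h1, h2⟩ := pairE_inj (hlt p hp).1 (hlt p hp).2 (hlt q hq).1 (hlt q hq).2 e
      exact Prod.ext h1 h2
    · exact List.Nodup.of_map _ (invTab_sorted.1.imp fun h => h.ne)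
  let cls := (MulAction.orbit (ConjAct ↥Cfsg.Spor.J1) tInv).toFinset
  have hcls : cls.card = 1463 := by
    rw [← Set.ncard_eq_toFinset_card', ← MulAction.index_stabilizer]
    have h := (MulAction.stabilizer (ConjAct ↥Cfsg.Spor.J1) tInv).card_mul_index
    rw [ConjAct.stabilizer_eq_centralizer] at h ⊢
    have hc1 : Nat.card (ConjAct ↥Cfsg.Spor.J1) = 175560 := by
      rw [← card_eq]; exact Nat.card_congr ConjAct.ofConjAct.toEquiv
    have hc2 := card_centralizer_tInv
    have hc3 : Nat.card ↥(centralizer ({tInv} : Set ↥Cfsg.Spor.J1)) * 1463 = 175560 := by rw [hc2]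
    exact Nat.eq_of_mul_eq_mul_left Nat.card_pos (h.trans (hc1.trans hc3.symm))
  have hsub : L ⊆ cls := by
    intro u hu
    simp only [L, List.mem_toFinset, List.mem_map] at hu
    obtain ⟨p, hp, rfl⟩ := hu
    have h := hchk p hp
    simp only [invCheck, Bool.and_eq_true, decide_eq_true_eq, Bool.not_eq_true'] at h
    simp only [cls, Set.mem_toFinset, ConjAct.mem_orbit_conjAct]
    exact (isConj_tInv (orderOf_pairE (hlt p hp).1 (hlt p hp).2 h.1.1.2 h.1.2)).symm
  have hmem : g ∈ cls := by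
    simp only [cls, Set.mem_toFinset, ConjAct.mem_orbit_conjAct]
    exact (isConj_tInv hg).symm
  rw [← Finset.eq_of_subset_of_card_le hsub (by rw [hL, hcls])] at hmem
  simp only [L, List.mem_toFinset, List.mem_map] at hmem
  exact hmem

/-- The element conjugating the first generator to its cube. -/
noncomputable def cubeE : ↥Cfsg.Spor.J1 := pairE 6 239

theorem cubeE_conj : cubeE * genX * cubeE⁻¹ = genX ^ 3 := by
  rw [mul_inv_eq_iff_eq_mul]
  refine code_injective ?_
  rw [code_mul, code_mul, code_pow, cubeE, code_pairE (by norm_num) (by norm_num), code_genX]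
  decide +kernel

theorem orderOf_genX : orderOf genX = 7 := by
  haveI : Fact (Nat.Prime 7) := ⟨by norm_num⟩
  refine orderOf_eq_prime ?_ ?_
  · rw [← eq_one_iff_pow, code_genX]; decide +kernel
  · rw [Ne, ← code_eq_one_iff, code_genX]; decide +kernel

theorem orbit_conj : ∀ p ∈ orbitTab, ∃ i : Fin 7, (decide (p.1 < 660) && decide (p.2 < 266) &&
    (mulC (powC xC i) (pairC 34 71) == mulC (pairC p.1 p.2) (powC xC i))) = true := by decide +kernel

theorem conj_cube_iterate : ∀ m : ℕ, cubeE ^ m * genX * (cubeE ^ m)⁻¹ = genX ^ 3 ^ m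
  | 0 => by simp
  | m + 1 => by
    rw [pow_succ', show cubeE * cubeE ^ m * genX * (cubeE * cubeE ^ m)⁻¹ =
      cubeE * (cubeE ^ m * genX * (cubeE ^ m)⁻¹) * cubeE⁻¹ by group, conj_cube_iterate m, ← conj_pow, cubeE_conj,
      ← pow_mul, pow_succ']

theorem inner_J1 (φ : MulAut ↥Cfsg.Spor.J1) : φ ∈ Cfsg.Inn ↥Cfsg.Spor.J1 := by
  classical
  haveI : Fact (Nat.Prime 7) := ⟨by norm_num⟩
  have hf : (175560 : ℕ).factorization 7 = 1 := by
    rw [show (175560 : ℕ) = 7 ^ 1 * 25080 from rfl, Nat.factorization_mul (by norm_num) (by norm_num),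
      (by norm_num : Nat.Prime 7).factorization_pow, Finsupp.add_apply, Finsupp.single_eq_same,
      Nat.factorization_eq_zero_of_not_dvd (by norm_num)]
  let P : Sylow 7 ↥Cfsg.Spor.J1 :=
    Sylow.ofCard (zpowers genX) (by rw [card_eq, hf, Nat.card_zpowers, orderOf_genX, pow_one])
  let Q : Sylow 7 ↥Cfsg.Spor.J1 :=
    Sylow.ofCard (zpowers (φ genX)) (by rw [card_eq, hf, Nat.card_zpowers, MulEquiv.orderOf_eq, orderOf_genX, pow_one])
  obtain ⟨k, hk⟩ := MulAction.exists_smul_eq ↥Cfsg.Spor.J1 Q P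
  have hmem : k * φ genX * k⁻¹ ∈ zpowers genX := by
    have h : k * φ genX * k⁻¹ ∈ (k • Q : Sylow 7 ↥Cfsg.Spor.J1).toSubgroup := by
      rw [Sylow.smul_def, Sylow.pointwise_smul_def]
      refine ⟨φ genX, ?_, rfl⟩
      rw [Sylow.coe_ofCard]
      exact mem_zpowers _
    rw [hk] at h
    simpa [P] using h
  obtain ⟨n, hn⟩ := (isOfFinOrder_of_finite genX).mem_zpowers_iff_mem_range_orderOf.1 hmem |> Finset.mem_image.1
  obtain ⟨hn7, hn⟩ := hn
  rw [Finset.mem_range, orderOf_genX] at hn7
  have hn0 : n ≠ 0 := fun e => by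
    have h0 : φ genX = 1 := by
      rw [e, pow_zero] at hn
      exact conj_eq_one_iff.1 hn.symm
    have h1 := orderOf_genX
    rw [← MulEquiv.orderOf_eq φ, h0, orderOf_one] at h1
    omega
  obtain ⟨m, hm⟩ : ∃ m : Fin 6, (3 ^ (m : ℕ) * n) % 7 = 1 := by
    interval_cases n <;> first | exact absurd rfl hn0 | decide
  set c := cubeE ^ (m : ℕ) * k with hc
  have hX : c * φ genX * c⁻¹ = genX := by
    rw [hc, show cubeE ^ (m : ℕ) * k * φ genX * (cubeE ^ (m : ℕ) * k)⁻¹ =
      cubeE ^ (m : ℕ) * (k * φ genX * k⁻¹) * (cubeE ^ (m : ℕ))⁻¹ by group, ← hn, ← conj_pow, conj_cube_iterate,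
      ← pow_mul, ← pow_mod_orderOf, orderOf_genX, hm, pow_one]
  let ψ : MulAut ↥Cfsg.Spor.J1 := MulAut.conj c * φ
  have hψX : ψ genX = genX := hX
  have hA2 : orderOf (ψ genA) = 2 := by rw [MulEquiv.orderOf_eq, genA_order]
  obtain ⟨p, hp, hpA⟩ := mem_invTab hA2
  have hchk : invCheck p = true := by
    obtain ⟨l, hl, hpl⟩ := List.mem_flatten.1 hp
    exact List.all_eq_true.1 (List.all_eq_true.1 invCheck_all l hl) p hpl
  simp only [invCheck, Bool.and_eq_true, Bool.or_eq_true, decide_eq_true_eq, Bool.not_eq_true',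
    beq_eq_false_iff_ne, List.contains_iff_mem] at hchk
  obtain ⟨⟨⟨⟨hp1, hp2⟩, -⟩, -⟩, htest⟩ := hchk
  have h5 : (genA * genX ^ 3) ^ 5 = 1 := by
    rw [← eq_one_iff_pow, code_mul, code_pow, code_genA, code_genX]; decide +kernel
  have h15 : (genA * genX) ^ 15 = 1 := by
    rw [← eq_one_iff_pow, code_mul, code_genA, code_genX]; decide +kernel
  have h5' : powC (mulC (pairC p.1 p.2) (powC xC 3)) 5 = oneC := by
    have := congrArg ψ h5
    rw [map_pow, map_mul, map_pow, hψX, map_one, ← hpA, ← eq_one_iff_pow, code_mul, code_pow,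
      code_pairE hp1 hp2, code_genX] at this
    exact this
  have h15' : powC (mulC (pairC p.1 p.2) xC) 15 = oneC := by
    have := congrArg ψ h15
    rw [map_pow, map_mul, hψX, map_one, ← hpA, ← eq_one_iff_pow, code_mul,
      code_pairE hp1 hp2, code_genX] at this
    exact this
  have hmem' : p ∈ orbitTab := by
    rcases htest with (h | h) | h
    · exact absurd h5' h
    · exact absurd h15' h
    · exact h
  obtain ⟨i, hi⟩ := orbit_conj p hmem'
  simp only [Bool.and_eq_true, decide_eq_true_eq, beq_iff_eq] at hi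
  have hA : genX ^ (i : ℕ) * genA * (genX ^ (i : ℕ))⁻¹ = ψ genA := by
    rw [← hpA, mul_inv_eq_iff_eq_mul]
    exact code_injective (by rw [code_mul, code_mul, code_pow, code_genA, code_genX, code_pairE hp1 hp2]; exact hi.2)
  set d := c⁻¹ * genX ^ (i : ℕ) with hd
  have key : φ = MulAut.conj d := by
    have h1 : φ genX = d * genX * d⁻¹ := by
      rw [hd, show c⁻¹ * genX ^ (i : ℕ) * genX * (c⁻¹ * genX ^ (i : ℕ))⁻¹ =
        c⁻¹ * (genX ^ (i : ℕ) * genX * (genX ^ (i : ℕ))⁻¹) * c by group,
        (Commute.pow_self genX (i : ℕ)).eq, mul_inv_cancel_right]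
      conv_rhs => rw [← hX]
      group
    have h2 : φ genA = d * genA * d⁻¹ := by
      rw [hd, show c⁻¹ * genX ^ (i : ℕ) * genA * (c⁻¹ * genX ^ (i : ℕ))⁻¹ =
        c⁻¹ * (genX ^ (i : ℕ) * genA * (genX ^ (i : ℕ))⁻¹) * c by group, hA]
      show φ genA = c⁻¹ * (c * φ genA * c⁻¹) * c
      group
    have htop : MonoidHom.eqLocus φ.toMonoidHom (MulAut.conj d).toMonoidHom = ⊤ := eq_top_of_gens h1 h2
    exact MulEquiv.ext fun g => (htop ▸ Subgroup.mem_top g : g ∈ MonoidHom.eqLocus φ.toMonoidHom (MulAut.conj d).toMonoidHom)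
  exact ⟨d, key.symm⟩

theorem out_card_J1 : Nat.card (Cfsg.Out ↥Cfsg.Spor.J1) = 1 := by
  have h : Cfsg.Inn ↥Cfsg.Spor.J1 = ⊤ := eq_top_iff.2 fun φ _ => inner_J1 φ
  show Nat.card (MulAut ↥Cfsg.Spor.J1 ⧸ Cfsg.Inn ↥Cfsg.Spor.J1) = 1
  rw [← Subgroup.index, h, Subgroup.index_top]

end CfsgLib.Char.J1
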