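/-
Packed natural-number codes for seven by seven matrices over the integers modulo 11, with a multiplication
of codes that the kernel evaluates with a few big-number operations.
-/
import Mathlib

namespace CfsgLib.Char.J1

/-- The base of the packing: twenty binary digits per entry. -/
abbrev fieldBase : ℕ := 2 ^ 20

/-- Pack the first `n` values of `f`. -/
def pack (n : ℕ) (f : ℕ → ℕ) : ℕ := ∑ m ∈ Finset.range n, f m * fieldBase ^ m

/-- The `m`-th entry of a code. -/
def field (X m : ℕ) : ℕ := X / fieldBase ^ m % fieldBase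

/-- Selects the first entry of every row of a code. -/
def colMask : ℕ := 0xfffff000000000000000000000000000000fffff000000000000000000000000000000fffff000000000000000000000000000000fffff000000000000000000000000000000fffff000000000000000000000000000000fffff000000000000000000000000000000fffff

/-- Selects the first row of a code. -/
def rowMask : ℕ := 0xfffffffffffffffffffffffffffffffffff

/-- Selects seven binary digits of every entry of a code. -/
def quotMask : ℕ := 0x7f0007f0007f0007f0007f0007f0007f0007f0007f0007f0007f0007f0007f0007f0007f0007f0007f0007f0007f0007f0007f0007f0007f0007f0007f0007f0007f0007f0007f0007f0007f0007f0007f0007f0007f0007f0007f0007f0007f0007f0007f0007f0007f0007f0007f0007f0007f0007f0007f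

/-- Reduce every entry (at most 700) modulo 11. -/
def reduceC (X : ℕ) : ℕ := X - 11 * (((X * 745) >>> 13) &&& quotMask)

/-- Product of two codes. -/
def mulC (a b : ℕ) : ℕ :=
  reduceC ((a &&& colMask) * (b &&& rowMask)
    + ((a >>> 20) &&& colMask) * ((b >>> 140) &&& rowMask)
    + ((a >>> 40) &&& colMask) * ((b >>> 280) &&& rowMask)
    + ((a >>> 60) &&& colMask) * ((b >>> 420) &&& rowMask)
    + ((a >>> 80) &&& colMask) * ((b >>> 560) &&& rowMask)
    + ((a >>> 100) &&& colMask) * ((b >>> 700) &&& rowMask)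
    + ((a >>> 120) &&& colMask) * ((b >>> 840) &&& rowMask))

theorem pack_succ (n : ℕ) (f : ℕ → ℕ) :
    pack (n + 1) f = f 0 + fieldBase * pack n (fun m => f (m + 1)) := by
  simp only [pack, Finset.sum_range_succ', pow_zero, mul_one, Finset.mul_sum, pow_succ]
  rw [add_comm]
  congr 1
  exact Finset.sum_congr rfl fun m _ => by ring

theorem field_zero (X : ℕ) : field X 0 = X % fieldBase := by simp [field]

theorem field_succ (X m : ℕ) : field X (m + 1) = field (X / fieldBase) m := by
  rw [field, field, Nat.div_div_eq_div_mul, ← pow_succ']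

theorem field_lt (X m : ℕ) : field X m < fieldBase := Nat.mod_lt _ (by norm_num)

theorem pack_field : ∀ (n X : ℕ), X < fieldBase ^ n → pack n (field X) = X
  | 0, X, h => by simp only [pow_zero, Nat.lt_one_iff] at h; simp [pack, h]
  | n + 1, X, h => by
    rw [pack_succ, funext (field_succ X), pack_field n _ ?_, field_zero, Nat.mod_add_div]
    exact Nat.div_lt_of_lt_mul (by rwa [← pow_succ'])

theorem field_pack : ∀ (n m : ℕ) (f : ℕ → ℕ), (∀ i < n, f i < fieldBase) →
    field (pack n f) m = if m < n then f m else 0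
  | 0, m, f, _ => by simp [field, pack]
  | n + 1, 0, f, h => by
    rw [field_zero, pack_succ, Nat.add_mul_mod_self_left, Nat.mod_eq_of_lt (h 0 n.succ_pos), if_pos n.succ_pos]
  | n + 1, m + 1, f, h => by
    rw [field_succ, pack_succ, Nat.add_mul_div_left _ _ (by norm_num : 0 < fieldBase),
      Nat.div_eq_of_lt (h 0 n.succ_pos), Nat.zero_add, field_pack n m _ fun i hi => h _ (by omega)]
    simp

theorem pack_congr {n : ℕ} {f g : ℕ → ℕ} (h : ∀ m < n, f m = g m) : pack n f = pack n g :=
  Finset.sum_congr rfl fun m hm => by rw [h m (Finset.mem_range.1 hm)]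

theorem pack_lt : ∀ (n : ℕ) (f : ℕ → ℕ), (∀ i < n, f i < fieldBase) → pack n f < fieldBase ^ n
  | 0, f, _ => by simp [pack]
  | n + 1, f, h => by
    have := pack_lt n (fun m => f (m + 1)) fun i hi => h _ (by omega)
    have h0 := h 0 n.succ_pos
    rw [pack_succ, pow_succ']
    calc f 0 + fieldBase * pack n (fun m => f (m + 1)) < fieldBase * (pack n (fun m => f (m + 1)) + 1) := by
          rw [Nat.mul_add, Nat.mul_one]; omega
      _ ≤ _ := Nat.mul_le_mul_left _ this

theorem pack_add (n : ℕ) (f g : ℕ → ℕ) : pack n f + pack n g = pack n (fun m => f m + g m) := by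
  simp only [pack, ← Finset.sum_add_distrib, add_mul]

theorem pack_mul_const (n c : ℕ) (f : ℕ → ℕ) : pack n f * c = pack n (fun m => f m * c) := by
  simp only [pack, Finset.sum_mul]
  exact Finset.sum_congr rfl fun m _ => by ring

theorem colMask_eq : colMask = pack 49 (fun m => if m % 7 = 0 then fieldBase - 1 else 0) := by
  decide +kernel

theorem rowMask_eq : rowMask = pack 49 (fun m => if m < 7 then fieldBase - 1 else 0) := by
  decide +kernel

theorem quotMask_eq : quotMask = pack 49 (fun _ => 127) := by decide +kernel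

theorem field_and (X Y m : ℕ) : field (X &&& Y) m = field X m &&& field Y m := by
  simp only [field, fieldBase, ← pow_mul, Nat.and_div_two_pow, Nat.and_mod_two_pow]

theorem field_shiftRight (X k m : ℕ) : field (X >>> (20 * k)) m = field X (k + m) := by
  simp only [field, fieldBase, Nat.shiftRight_eq_div_pow, pow_mul, Nat.div_div_eq_div_mul, pow_add]

theorem col_eq {f : ℕ → ℕ} (hf : ∀ m < 49, f m < fieldBase) {k : ℕ} (hk : k < 7) :
    (pack 49 f >>> (20 * k)) &&& colMask = pack 49 (fun m => if m % 7 = 0 then f (k + m) else 0) := by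
  refine (pack_field 49 _ ((Nat.and_le_right).trans_lt (by decide +kernel))).symm.trans (pack_congr fun m hm => ?_)
  rw [field_and, field_shiftRight, colMask_eq, field_pack _ _ _ hf,
    field_pack _ _ _ (fun i _ => by split_ifs <;> norm_num), if_pos hm]
  by_cases h : m % 7 = 0
  · have : k + m < 49 := by omega
    rw [if_pos h, if_pos h, if_pos this]
    exact (Nat.and_two_pow_sub_one_eq_mod _ 20).trans (Nat.mod_eq_of_lt (hf _ this))
  · rw [if_neg h, if_neg h, Nat.and_zero]

theorem row_eq {f : ℕ → ℕ} (hf : ∀ m < 49, f m < fieldBase) {k : ℕ} (hk : k < 7) :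
    (pack 49 f >>> (20 * (7 * k))) &&& rowMask = pack 49 (fun m => if m < 7 then f (7 * k + m) else 0) := by
  refine (pack_field 49 _ ((Nat.and_le_right).trans_lt (by decide +kernel))).symm.trans (pack_congr fun m hm => ?_)
  rw [field_and, field_shiftRight, rowMask_eq, field_pack _ _ _ hf,
    field_pack _ _ _ (fun i _ => by split_ifs <;> norm_num), if_pos hm]
  by_cases h : m < 7
  · have : 7 * k + m < 49 := by omega
    rw [if_pos h, if_pos h, if_pos this]
    exact (Nat.and_two_pow_sub_one_eq_mod _ 20).trans (Nat.mod_eq_of_lt (hf _ this))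
  · rw [if_neg h, if_neg h, Nat.and_zero]

theorem sum_range_seven_mul (q : ℕ) (h : ℕ → ℕ) :
    ∑ m ∈ Finset.range (7 * q), h m = ∑ i ∈ Finset.range q, ∑ j ∈ Finset.range 7, h (7 * i + j) := by
  induction q with
  | zero => simp
  | succ q ih => rw [Finset.sum_range_succ, ← ih, Nat.mul_succ, Finset.sum_range_add]

theorem outer_product (x : ℕ) (a b : ℕ → ℕ) :
    (∑ m ∈ Finset.range 49, (if m % 7 = 0 then a (m / 7) else 0) * x ^ m) *
        (∑ m ∈ Finset.range 49, (if m < 7 then b m else 0) * x ^ m) =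
      ∑ m ∈ Finset.range 49, a (m / 7) * b (m % 7) * x ^ m := by
  have h49 : ∀ h : ℕ → ℕ, ∑ m ∈ Finset.range 49, h m =
      ∑ i ∈ Finset.range 7, ∑ j ∈ Finset.range 7, h (7 * i + j) := sum_range_seven_mul 7
  have e1 : ∀ i j : ℕ, j < 7 → (7 * i + j) % 7 = j := fun i j h => by omega
  have e2 : ∀ i j : ℕ, j < 7 → (7 * i + j) / 7 = i := fun i j h => by omega
  have hA : ∑ m ∈ Finset.range 49, (if m % 7 = 0 then a (m / 7) else 0) * x ^ m =
      ∑ i ∈ Finset.range 7, a i * x ^ (7 * i) := by
    rw [h49]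
    refine Finset.sum_congr rfl fun i _ => ?_
    rw [Finset.sum_eq_single 0 (fun j hj h0 => by
      rw [if_neg (by rw [e1 i j (Finset.mem_range.1 hj)]; exact h0), zero_mul]) (by simp)]
    rw [if_pos (e1 i 0 (by norm_num)), e2 i 0 (by norm_num), Nat.add_zero]
  have hB : ∑ m ∈ Finset.range 49, (if m < 7 then b m else 0) * x ^ m =
      ∑ j ∈ Finset.range 7, b j * x ^ j := by
    rw [h49, Finset.sum_eq_single 0 (fun i _ h0 => Finset.sum_eq_zero fun j _ => by
      rw [if_neg (by omega), zero_mul]) (by simp)]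
    refine Finset.sum_congr rfl fun j hj => ?_
    rw [Nat.mul_zero, Nat.zero_add, if_pos (Finset.mem_range.1 hj)]
  rw [hA, hB, h49, Finset.sum_mul_sum]
  refine Finset.sum_congr rfl fun i _ => Finset.sum_congr rfl fun j hj => ?_
  rw [e1 i j (Finset.mem_range.1 hj), e2 i j (Finset.mem_range.1 hj)]
  ring

theorem term_eq {f g : ℕ → ℕ} (hf : ∀ m < 49, f m < fieldBase) (hg : ∀ m < 49, g m < fieldBase)
    {k : ℕ} (hk : k < 7) :
    ((pack 49 f >>> (20 * k)) &&& colMask) * ((pack 49 g >>> (20 * (7 * k))) &&& rowMask) =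
      pack 49 (fun m => f (7 * (m / 7) + k) * g (7 * k + m % 7)) := by
  rw [col_eq hf hk, row_eq hg hk]
  have e : pack 49 (fun m => if m % 7 = 0 then f (k + m) else 0) =
      pack 49 (fun m => if m % 7 = 0 then f (7 * (m / 7) + k) else 0) := pack_congr fun m _ => by
    split_ifs with h
    · rw [show k + m = 7 * (m / 7) + k by omega]
    · rfl
  rw [e]
  exact outer_product fieldBase (fun i => f (7 * i + k)) (fun j => g (7 * k + j))

theorem div_eleven : ∀ s < 701, s * 745 < fieldBase ∧ s * 745 / 2 ^ 13 % 128 = s / 11 := by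
  decide +kernel

theorem reduceC_pack {s : ℕ → ℕ} (hs : ∀ m < 49, s m ≤ 700) :
    reduceC (pack 49 s) = pack 49 (fun m => s m % 11) := by
  have hq : ((pack 49 s * 745) >>> 13) &&& quotMask = pack 49 (fun m => s m / 11) := by
    refine (pack_field 49 _ ((Nat.and_le_right).trans_lt (by decide +kernel))).symm.trans (pack_congr fun m hm => ?_)
    obtain ⟨hlt, hdiv⟩ := div_eleven (s m) (by have := hs m hm; omega)
    have hy : field (pack 49 s * 745) m = s m * 745 := by
      rw [pack_mul_const, field_pack _ _ _ fun i hi => (div_eleven (s i) (by have := hs i hi; omega)).1,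
        if_pos hm]
    rw [field_and, quotMask_eq, field_pack _ _ _ (fun i _ => by norm_num), if_pos hm,
      show (127 : ℕ) = 2 ^ 7 - 1 from rfl, Nat.and_two_pow_sub_one_eq_mod, field, Nat.shiftRight_eq_div_pow,
      Nat.div_div_eq_div_mul, mul_comm (2 ^ 13), ← Nat.div_div_eq_div_mul, ← hdiv, ← hy, field]
    simp only [fieldBase]
    omega
  rw [reduceC, hq, mul_comm 11, pack_mul_const]
  refine Nat.sub_eq_of_eq_add ?_
  rw [pack_add]
  exact pack_congr fun m _ => by rw [mul_comm (s m / 11)]; exact (Nat.mod_add_div _ _).symm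

/-- The code of a matrix. -/
def enc (M : Matrix (Fin 7) (Fin 7) (ZMod 11)) : ℕ :=
  pack 49 (fun m => (M ⟨m / 7 % 7, Nat.mod_lt _ (by norm_num)⟩ ⟨m % 7, Nat.mod_lt _ (by norm_num)⟩).val)

theorem enc_field_lt (M : Matrix (Fin 7) (Fin 7) (ZMod 11)) (i j : Fin 7) : (M i j).val < fieldBase :=
  (ZMod.val_lt _).trans (by norm_num)

theorem enc_injective : Function.Injective enc := by
  intro A B h
  ext i j
  have := congrArg (field · (7 * i.val + j.val)) h
  simp only [enc] at this
  rw [field_pack _ _ _ (fun _ _ => enc_field_lt _ _ _), field_pack _ _ _ (fun _ _ => enc_field_lt _ _ _),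
    if_pos (by omega), if_pos (by omega)] at this
  have e1 : (⟨(7 * i.val + j.val) / 7 % 7, Nat.mod_lt _ (by norm_num)⟩ : Fin 7) = i :=
    Fin.ext (show (7 * i.val + j.val) / 7 % 7 = i.val by omega)
  have e2 : (⟨(7 * i.val + j.val) % 7, Nat.mod_lt _ (by norm_num)⟩ : Fin 7) = j :=
    Fin.ext (show (7 * i.val + j.val) % 7 = j.val by omega)
  rw [e1, e2] at this
  exact ZMod.val_injective _ this

theorem mulC_enc (A B : Matrix (Fin 7) (Fin 7) (ZMod 11)) : mulC (enc A) (enc B) = enc (A * B) := by
  set f : ℕ → ℕ := fun m =>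
    (A ⟨m / 7 % 7, Nat.mod_lt _ (by norm_num)⟩ ⟨m % 7, Nat.mod_lt _ (by norm_num)⟩).val with hfdef
  set g : ℕ → ℕ := fun m =>
    (B ⟨m / 7 % 7, Nat.mod_lt _ (by norm_num)⟩ ⟨m % 7, Nat.mod_lt _ (by norm_num)⟩).val with hgdef
  have hf : ∀ m < 49, f m < fieldBase := fun m _ => enc_field_lt _ _ _
  have hg : ∀ m < 49, g m < fieldBase := fun m _ => enc_field_lt _ _ _
  have hf' : ∀ m, f m ≤ 10 := fun m => Nat.le_of_lt_succ (ZMod.val_lt _)
  have hg' : ∀ m, g m ≤ 10 := fun m => Nat.le_of_lt_succ (ZMod.val_lt _)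
  show mulC (pack 49 f) (pack 49 g) = _
  have t := fun k (hk : k < 7) => term_eq hf hg hk
  have t0 := t 0 (by norm_num)
  have t1 := t 1 (by norm_num)
  have t2 := t 2 (by norm_num)
  have t3 := t 3 (by norm_num)
  have t4 := t 4 (by norm_num)
  have t5 := t 5 (by norm_num)
  have t6 := t 6 (by norm_num)
  simp only [Nat.mul_zero, Nat.mul_one, Nat.shiftRight_zero, Nat.reduceMul] at t0 t1 t2 t3 t4 t5 t6
  rw [mulC, t0, t1, t2, t3, t4, t5, t6]
  simp only [pack_add]
  rw [reduceC_pack (fun m _ => ?_)]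
  · refine pack_congr fun m hm => ?_
    have key : ∀ k, (hk : k < 7) →
        A ⟨m / 7 % 7, Nat.mod_lt _ (by norm_num)⟩ ⟨k, hk⟩ = ((f (7 * (m / 7) + k) : ℕ) : ZMod 11) ∧
        B ⟨k, hk⟩ ⟨m % 7, Nat.mod_lt _ (by norm_num)⟩ = ((g (7 * k + m % 7) : ℕ) : ZMod 11) := by
      intro k hk
      simp only [hfdef, hgdef, ZMod.natCast_val, ZMod.cast_id', id]
      constructor <;> congr 1 <;> exact Fin.ext (show _ = _ by dsimp only; omega)
    rw [Matrix.mul_apply, Fin.sum_univ_seven, ← ZMod.val_natCast]
    congr 1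
    have h0 := key 0 (by norm_num)
    have h1 := key 1 (by norm_num)
    have h2 := key 2 (by norm_num)
    have h3 := key 3 (by norm_num)
    have h4 := key 4 (by norm_num)
    have h5 := key 5 (by norm_num)
    have h6 := key 6 (by norm_num)
    simp only [Nat.mul_zero, Nat.add_zero, Nat.zero_add, Nat.mul_one] at h0 h1 h2 h3 h4 h5 h6
    push_cast
    simp only [Nat.add_zero, Nat.zero_add]
    rw [← h0.1, ← h0.2, ← h1.1, ← h1.2, ← h2.1, ← h2.2, ← h3.1, ← h3.2, ← h4.1, ← h4.2, ← h5.1, ← h5.2,
      ← h6.1, ← h6.2]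
    rfl
  · have hh : ∀ a b, f a * g b ≤ 100 := fun a b => Nat.mul_le_mul (hf' a) (hg' b)
    have := hh (7 * (m / 7)) (m % 7)
    have := hh (7 * (m / 7) + 1) (7 + m % 7)
    have := hh (7 * (m / 7) + 2) (14 + m % 7)
    have := hh (7 * (m / 7) + 3) (21 + m % 7)
    have := hh (7 * (m / 7) + 4) (28 + m % 7)
    have := hh (7 * (m / 7) + 5) (35 + m % 7)
    have := hh (7 * (m / 7) + 6) (42 + m % 7)
    simp only [Nat.add_zero, Nat.zero_add]
    omega

end CfsgLib.Char.J1
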