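/-
The element orders of the fourth direct power of the first Janko group, and a family of unboundedly large
solvable groups with the same element orders.
-/
import Cfsg.Agent.Lib.Char.J1.Spectrum

set_option autoImplicit false

namespace CfsgLib.Char.J1

/-- The element orders of the fourth power are the proper divisors of 43890. -/
theorem mem_range_orderOf_fourth {n : ℕ} :
    n ∈ Set.range (orderOf : ↥Cfsg.Spor.J1 × ↥Cfsg.Spor.J1 × ↥Cfsg.Spor.J1 × ↥Cfsg.Spor.J1 → ℕ) ↔
      n ∣ 43890 ∧ n ≠ 43890 := by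
  constructor
  · rintro ⟨⟨a, b, c, d⟩, rfl⟩
    obtain ⟨m1, h1, d1⟩ := orderOf_dvd_exponent a
    obtain ⟨m2, h2, d2⟩ := orderOf_dvd_exponent b
    obtain ⟨m3, h3, d3⟩ := orderOf_dvd_exponent c
    obtain ⟨m4, h4, d4⟩ := orderOf_dvd_exponent d
    have key : ∀ x ∈ ({6, 10, 15, 7, 11, 19} : Finset ℕ), ∀ y ∈ ({6, 10, 15, 7, 11, 19} : Finset ℕ),
        ∀ z ∈ ({6, 10, 15, 7, 11, 19} : Finset ℕ), ∀ w ∈ ({6, 10, 15, 7, 11, 19} : Finset ℕ),
        43890 % Nat.lcm x (Nat.lcm y (Nat.lcm z w)) = 0 ∧ Nat.lcm x (Nat.lcm y (Nat.lcm z w)) ≠ 43890 := by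
      decide +kernel
    obtain ⟨hL, hne⟩ := key _ h1 _ h2 _ h3 _ h4
    have hdvd : orderOf (a, b, c, d) ∣ Nat.lcm m1 (Nat.lcm m2 (Nat.lcm m3 m4)) := by
      rw [Prod.orderOf, Prod.orderOf, Prod.orderOf]
      have mono : ∀ {a b c d : ℕ}, a ∣ b → c ∣ d → Nat.lcm a c ∣ Nat.lcm b d := fun h h' =>
        Nat.lcm_dvd (h.trans (Nat.dvd_lcm_left _ _)) (h'.trans (Nat.dvd_lcm_right _ _))
      exact mono d1 (mono d2 (mono d3 d4))
    have hL' := Nat.dvd_of_mod_eq_zero hL
    exact ⟨hdvd.trans hL', fun h => hne (Nat.dvd_antisymm hL' (h ▸ hdvd))⟩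
  · rintro ⟨hn, hne⟩
    obtain ⟨s, hs⟩ := exists_orderOf_six
    obtain ⟨t, ht⟩ := exists_orderOf_ten
    obtain ⟨u, hu⟩ := exists_orderOf_fifteen
    obtain ⟨a, ha⟩ := exists_orderOf_seven
    obtain ⟨b, hb⟩ := exists_orderOf_eleven
    obtain ⟨c, hc⟩ := exists_orderOf_nineteen
    have h5 : orderOf (t ^ 2) = 5 := by rw [orderOf_pow_of_dvd (by norm_num) (by rw [ht]; norm_num), ht]
    obtain ⟨k, hk⟩ := hn
    have hk1 : k ≠ 1 := fun h => hne (by subst h; simpa using hk.symm)
    obtain ⟨p, hp, hpk⟩ := Nat.exists_prime_and_dvd hk1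
    obtain ⟨j, rfl⟩ := hpk
    have hmem : p = 2 ∨ p = 3 ∨ p = 5 ∨ p = 7 ∨ p = 11 ∨ p = 19 := by
      have hd : p ∣ 2 * (3 * (5 * (7 * (11 * 19)))) := ⟨n * j, by norm_num; rw [hk]; ring⟩
      have pr : ∀ {q r : ℕ}, q.Prime → p ∣ q * r → p = q ∨ p ∣ r := fun hq h =>
        (hp.dvd_mul.1 h).imp_left fun h => (Nat.prime_dvd_prime_iff_eq hp hq).1 h
      rcases pr (by norm_num) hd with h | hd; · exact .inl h
      rcases pr (by norm_num) hd with h | hd; · exact .inr (.inl h)
      rcases pr (by norm_num) hd with h | hd; · exact .inr (.inr (.inl h))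
      rcases pr (by norm_num) hd with h | hd; · exact .inr (.inr (.inr (.inl h)))
      rcases pr (by norm_num) hd with h | hd; · exact .inr (.inr (.inr (.inr (.inl h))))
      exact .inr (.inr (.inr (.inr (.inr ((Nat.prime_dvd_prime_iff_eq hp (by norm_num)).1 hd)))))
    suffices ∃ g : ↥Cfsg.Spor.J1 × ↥Cfsg.Spor.J1 × ↥Cfsg.Spor.J1 × ↥Cfsg.Spor.J1, n ∣ orderOf g by
      obtain ⟨g, m, hm⟩ := this
      have hm0 : m ≠ 0 := by
        rintro rfl
        exact (orderOf_pos g).ne' (by simpa using hm)
      refine ⟨g ^ m, ?_⟩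
      rw [orderOf_pow_of_dvd hm0 ⟨n, by rw [hm, mul_comm]⟩, hm, Nat.mul_div_cancel _ (Nat.pos_of_ne_zero hm0)]
    rcases hmem with rfl | rfl | rfl | rfl | rfl | rfl
    · exact ⟨(u, a, b, c), j, by rw [Prod.orderOf, Prod.orderOf, Prod.orderOf, hu, ha, hb, hc]; norm_num; linarith⟩
    · exact ⟨(t, a, b, c), j, by rw [Prod.orderOf, Prod.orderOf, Prod.orderOf, ht, ha, hb, hc]; norm_num; linarith⟩
    · exact ⟨(s, a, b, c), j, by rw [Prod.orderOf, Prod.orderOf, Prod.orderOf, hs, ha, hb, hc]; norm_num; linarith⟩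
    · exact ⟨(s, t ^ 2, b, c), j, by rw [Prod.orderOf, Prod.orderOf, Prod.orderOf, hs, h5, hb, hc]; norm_num; linarith⟩
    · exact ⟨(s, t ^ 2, a, c), j, by rw [Prod.orderOf, Prod.orderOf, Prod.orderOf, hs, h5, ha, hc]; norm_num; linarith⟩
    · exact ⟨(s, t ^ 2, a, b), j, by rw [Prod.orderOf, Prod.orderOf, Prod.orderOf, hs, h5, ha, hb]; norm_num; linarith⟩

/-- The five odd primes. -/
def oddPrime : Fin 5 → ℕ := ![3, 5, 7, 11, 19]

theorem oddPrime_prime : ∀ i, (oddPrime i).Prime := by
  intro i; fin_cases i <;> norm_num [oddPrime]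

/-- The functions on the five cyclic groups with values in an elementary 2-group and vanishing sums. -/
def cocycleSpace (N : ℕ) : AddSubgroup ((i : Fin 5) → ZMod (oddPrime i) → Fin N → ZMod 2) where
  carrier := {f | ∀ i x, ∑ t ∈ Finset.range (oddPrime i), f i (x + (t : ZMod (oddPrime i))) = 0}
  zero_mem' := fun i x => by simp
  add_mem' := fun {f g} hf hg i x => by simp [Finset.sum_add_distrib, hf i x, hg i x]
  neg_mem' := fun {f} hf i x => by simp [Finset.sum_neg_distrib, hf i x]

/-- The reduction of an exponent modulo one of the primes. -/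
def reduceTo (i : Fin 5) : ZMod 21945 →+* ZMod (oddPrime i) :=
  ZMod.castHom (by fin_cases i <;> norm_num [oddPrime]) _

/-- The shift action. -/
def shiftEquiv (N : ℕ) (c : ZMod 21945) : ↥(cocycleSpace N) ≃+ ↥(cocycleSpace N) where
  toFun f := ⟨fun i x => f.1 i (x + reduceTo i c), fun i x => by
    rw [← f.2 i (x + reduceTo i c)]
    exact Finset.sum_congr rfl fun t _ => by rw [add_right_comm]⟩
  invFun f := ⟨fun i x => f.1 i (x - reduceTo i c), fun i x => by
    rw [← f.2 i (x - reduceTo i c)]
    exact Finset.sum_congr rfl fun t _ => by rw [sub_add_eq_add_sub]⟩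
  left_inv f := Subtype.ext (funext fun i => funext fun x => by simp)
  right_inv f := Subtype.ext (funext fun i => funext fun x => by simp)
  map_add' f g := rfl

/-- The shift action as automorphisms. -/
def shiftHom (N : ℕ) : Multiplicative (ZMod 21945) →* MulAut (Multiplicative ↥(cocycleSpace N)) where
  toFun c := AddEquiv.toMultiplicative (shiftEquiv N c.toAdd)
  map_one' := MulEquiv.ext fun f => Multiplicative.toAdd.injective
    (Subtype.ext (funext fun i => funext fun x => by simp [shiftEquiv]))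
  map_mul' a b := MulEquiv.ext fun f => Multiplicative.toAdd.injective
    (Subtype.ext (funext fun i => funext fun x => by simp [shiftEquiv, add_comm, add_left_comm]))

/-- The group with unboundedly large order and the spectrum of the fourth power. -/
abbrev ShiftGroup (N : ℕ) : Type :=
  Multiplicative ↥(cocycleSpace N) ⋊[shiftHom N] Multiplicative (ZMod 21945)

/-- The finiteness of the group. -/
@[instance] theorem shiftGroup_finite (N : ℕ) : Finite (ShiftGroup N) := by
  haveI : ∀ i, NeZero (oddPrime i) := fun i => ⟨(oddPrime_prime i).ne_zero⟩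
  haveI : Finite (Multiplicative ↥(cocycleSpace N)) :=
    Finite.of_equiv ↥(cocycleSpace N) Multiplicative.ofAdd
  exact Finite.of_equiv _ SemidirectProduct.equivProd.symm

/-- The module coordinate of an element. -/
def coord {N : ℕ} (g : ShiftGroup N) (i : Fin 5) (x : ZMod (oddPrime i)) : Fin N → ZMod 2 :=
  (g.left.toAdd : ↥(cocycleSpace N)).1 i x

theorem coord_mul {N : ℕ} (g h : ShiftGroup N) (i : Fin 5) (x : ZMod (oddPrime i)) :
    coord (g * h) i x = coord g i x + coord h i (x + reduceTo i g.right.toAdd) := rfl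

theorem coord_pow {N : ℕ} (g : ShiftGroup N) (i : Fin 5) : ∀ (k : ℕ) (x : ZMod (oddPrime i)),
    coord (g ^ k) i x = ∑ t ∈ Finset.range k, coord g i (x + (t : ZMod (oddPrime i)) * reduceTo i g.right.toAdd)
  | 0, x => by simp [coord]
  | k + 1, x => by
    rw [pow_succ', coord_mul, coord_pow g i k, Finset.sum_range_succ']
    rw [add_comm]
    congr 1
    · exact Finset.sum_congr rfl fun t _ => by push_cast; ring_nf
    · simp

theorem right_pow {N : ℕ} (g : ShiftGroup N) (k : ℕ) : (g ^ k).right = g.right ^ k :=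
  map_pow SemidirectProduct.rightHom g k

theorem eq_one_iff {N : ℕ} (g : ShiftGroup N) : g = 1 ↔ g.right = 1 ∧ ∀ i x, coord g i x = 0 := by
  constructor
  · rintro rfl; exact ⟨rfl, fun i x => rfl⟩
  · rintro ⟨h1, h2⟩
    exact SemidirectProduct.ext (Multiplicative.toAdd.injective (Subtype.ext (funext fun i => funext fun x => h2 i x))) h1

theorem pow_double_eq_one {N : ℕ} (g : ShiftGroup N) {k : ℕ} (hk : g.right ^ k = 1) : g ^ (2 * k) = 1 := by
  rw [mul_comm 2, pow_mul, eq_one_iff]
  constructor
  · rw [right_pow, right_pow, hk, one_pow]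
  · intro i x
    rw [coord_pow]
    simp only [right_pow, hk, toAdd_one, map_zero, mul_zero, add_zero, Finset.sum_range_succ,
      Finset.sum_range_zero, zero_add]
    funext r; simp [CharTwo.add_self_eq_zero]

theorem pow_top_eq_one {N : ℕ} (g : ShiftGroup N) (hg : ∀ i, reduceTo i g.right.toAdd ≠ 0) :
    g ^ 21945 = 1 := by
  rw [eq_one_iff]
  constructor
  · rw [right_pow]
    exact Multiplicative.toAdd.injective (by simp [show (21945 : ZMod 21945) = 0 from by decide])
  · intro i x
    haveI : Fact (oddPrime i).Prime := ⟨oddPrime_prime i⟩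
    obtain ⟨M, hM⟩ : oddPrime i ∣ 21945 := by fin_cases i <;> norm_num [oddPrime]
    have hzero : ∀ y : ZMod (oddPrime i), coord (g ^ oddPrime i) i y = 0 := by
      intro y
      rw [coord_pow]
      have hs := (g.left.toAdd : ↥(cocycleSpace N)).2 i y
      rw [← hs]
      set c := reduceTo i g.right.toAdd
      refine Finset.sum_bij (fun t _ => ((t : ZMod (oddPrime i)) * c).val) (fun t _ => Finset.mem_range.2 (ZMod.val_lt _))
        (fun a ha b hb h => ?_) (fun b hb => ?_) (fun t _ => ?_)
      · have := mul_right_cancel₀ (hg i) (ZMod.val_injective _ h)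
        rw [ZMod.natCast_eq_natCast_iff'] at this
        rwa [Nat.mod_eq_of_lt (Finset.mem_range.1 ha), Nat.mod_eq_of_lt (Finset.mem_range.1 hb)] at this
      · refine ⟨((b : ZMod (oddPrime i)) * c⁻¹).val, Finset.mem_range.2 (ZMod.val_lt _), ?_⟩
        rw [ZMod.natCast_zmod_val, inv_mul_cancel_right₀ (hg i), ZMod.val_natCast,
          Nat.mod_eq_of_lt (Finset.mem_range.1 hb)]
      · rw [ZMod.natCast_zmod_val]; rfl
    rw [show g ^ 21945 = g ^ (oddPrime i * M) from congrArg (g ^ ·) hM, pow_mul, coord_pow]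
    exact Finset.sum_eq_zero fun t _ => hzero _

theorem reduceTo_pow {N : ℕ} (g : ShiftGroup N) (i : Fin 5) (k : ℕ) :
    reduceTo i (g.right ^ k).toAdd = (k : ZMod (oddPrime i)) * reduceTo i g.right.toAdd := by
  rw [toAdd_pow, map_nsmul, nsmul_eq_mul]

/-- An element of the module supported at two points of one cyclic group. -/
def twoPoint (N : ℕ) (i : Fin 5) (e : Fin N → ZMod 2) : ↥(cocycleSpace N) :=
  ⟨Function.update (β := fun i => ZMod (oddPrime i) → Fin N → ZMod 2) 0 i
    (fun x => (if x = 0 then e else 0) + (if x = 1 then e else 0)), by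
    intro j x
    by_cases h : j = i
    · subst h
      haveI : Fact (oddPrime j).Prime := ⟨oddPrime_prime j⟩
      haveI : NeZero (oddPrime j) := ⟨(oddPrime_prime j).ne_zero⟩
      simp only [Function.update_self, Finset.sum_add_distrib]
      have one : ∀ a : ZMod (oddPrime j),
          (∑ t ∈ Finset.range (oddPrime j), if x + (t : ZMod (oddPrime j)) = a then e else 0) = e := by
        intro a
        rw [Finset.sum_eq_single (a - x).val]
        · simp
        · intro t ht hne
          rw [if_neg]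
          intro hh
          apply hne
          rw [← hh, add_sub_cancel_left, ZMod.val_natCast, Nat.mod_eq_of_lt (Finset.mem_range.1 ht)]
        · intro h; exact absurd (Finset.mem_range.2 (ZMod.val_lt _)) h
      rw [one, one]
      funext r; simp [CharTwo.add_self_eq_zero]
    · simp [Function.update_of_ne h]⟩

theorem twoPoint_apply (N : ℕ) (i : Fin 5) (e : Fin N → ZMod 2) : (twoPoint N i e).1 i 0 = e := by
  haveI : Fact (oddPrime i).Prime := ⟨oddPrime_prime i⟩
  simp [twoPoint]

/-- The element orders of the group are the proper divisors of 43890. -/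
theorem mem_range_orderOf_shift {N : ℕ} (hN : 0 < N) {n : ℕ} :
    n ∈ Set.range (orderOf : ShiftGroup N → ℕ) ↔ n ∣ 43890 ∧ n ≠ 43890 := by
  have hc : ∀ c : Multiplicative (ZMod 21945), orderOf c ∣ 21945 := fun c =>
    orderOf_dvd_of_pow_eq_one (Multiplicative.toAdd.injective (by
      simp [show (21945 : ZMod 21945) = 0 from by decide]))
  constructor
  · rintro ⟨g, rfl⟩
    have h1 : orderOf g ∣ 2 * orderOf g.right :=
      orderOf_dvd_of_pow_eq_one (pow_double_eq_one g (pow_orderOf_eq_one _))
    have h2 : orderOf g ∣ 43890 := h1.trans (Nat.mul_dvd_mul_left 2 (hc _))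
    refine ⟨h2, fun h => ?_⟩
    by_cases hall : ∀ i, reduceTo i g.right.toAdd ≠ 0
    · have := Nat.le_of_dvd (by norm_num) (orderOf_dvd_of_pow_eq_one (pow_top_eq_one g hall))
      omega
    · push Not at hall
      obtain ⟨i, hi⟩ := hall
      obtain ⟨M, hM⟩ : oddPrime i ∣ 21945 := by fin_cases i <;> norm_num [oddPrime]
      have hz : g.right ^ M = 1 := by
        apply Multiplicative.toAdd.injective
        rw [toAdd_pow, toAdd_one]
        haveI : NeZero (oddPrime i) := ⟨(oddPrime_prime i).ne_zero⟩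
        have hv := (ZMod.natCast_zmod_val g.right.toAdd).symm
        rw [hv, reduceTo, map_natCast, ZMod.natCast_eq_zero_iff] at hi
        rw [hv, nsmul_eq_mul, ← Nat.cast_mul, ZMod.natCast_eq_zero_iff]
        exact (hM.trans (mul_comm _ _)).dvd.trans (Nat.mul_dvd_mul_left _ hi)
      have h3 := Nat.le_of_dvd (by
        have := (oddPrime_prime i).two_le
        rcases Nat.eq_zero_or_pos M with rfl | hp
        · simp at hM
        · omega) (orderOf_dvd_of_pow_eq_one (pow_double_eq_one g hz))
      have := (oddPrime_prime i).two_le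
      nlinarith
  · rintro ⟨hn, hne⟩
    let base : ShiftGroup N := SemidirectProduct.inr (Multiplicative.ofAdd (1 : ZMod 21945))
    have hb : orderOf base = 21945 := by
      rw [orderOf_injective _ SemidirectProduct.inr_injective, orderOf_ofAdd_eq_addOrderOf, ZMod.addOrderOf_one]
    suffices ∃ g : ShiftGroup N, n ∣ orderOf g by
      obtain ⟨g, m, hm⟩ := this
      have hm0 : m ≠ 0 := by
        rintro rfl
        exact (orderOf_pos g).ne' (by simpa using hm)
      refine ⟨g ^ m, ?_⟩
      rw [orderOf_pow_of_dvd hm0 ⟨n, by rw [hm, mul_comm]⟩, hm, Nat.mul_div_cancel _ (Nat.pos_of_ne_zero hm0)]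
    by_cases h2 : n ∣ 21945
    · exact ⟨base, h2.trans hb.symm.dvd⟩
    obtain ⟨i, hi⟩ : ∃ i : Fin 5, oddPrime i * n ∣ 43890 := by
      obtain ⟨k, hk⟩ := hn
      have hk1 : k ≠ 1 := fun h => hne (by subst h; simpa using hk.symm)
      obtain ⟨p, hp, j, rfl⟩ := Nat.exists_prime_and_dvd hk1
      have hodd : p ≠ 2 := by
        rintro rfl
        exact h2 ⟨j, by linarith⟩
      have hd : p ∣ 2 * (3 * (5 * (7 * (11 * 19)))) := ⟨n * j, by norm_num; rw [hk]; ring⟩
      have pr : ∀ {q r : ℕ}, q.Prime → p ∣ q * r → p = q ∨ p ∣ r := fun hq h =>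
        (hp.dvd_mul.1 h).imp_left fun h => (Nat.prime_dvd_prime_iff_eq hp hq).1 h
      have fin : ∀ i : Fin 5, p = oddPrime i → ∃ i : Fin 5, oddPrime i * n ∣ 43890 :=
        fun i h => ⟨i, j, by rw [hk, ← h]; ring⟩
      rcases pr (by norm_num) hd with h | hd; · exact absurd h hodd
      rcases pr (by norm_num) hd with h | hd; · exact fin 0 h
      rcases pr (by norm_num) hd with h | hd; · exact fin 1 h
      rcases pr (by norm_num) hd with h | hd; · exact fin 2 h
      rcases pr (by norm_num) hd with h | hd; · exact fin 3 h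
      exact fin 4 ((Nat.prime_dvd_prime_iff_eq hp (oddPrime_prime 4)).1 hd)
    obtain ⟨M, hM⟩ : oddPrime i ∣ 21945 := by fin_cases i <;> norm_num [oddPrime]
    have hp := oddPrime_prime i
    let v : ShiftGroup N := SemidirectProduct.inl (Multiplicative.ofAdd (twoPoint N i (fun _ => 1)))
    have hv : orderOf v = 2 := by
      refine orderOf_eq_prime (pow_double_eq_one v (k := 1) rfl) fun h => ?_
      have := ((eq_one_iff v).1 h).2 i 0
      rw [show coord v i 0 = (twoPoint N i (fun _ => 1)).1 i 0 from rfl, twoPoint_apply] at this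
      exact one_ne_zero (congrFun this ⟨0, hN⟩)
    have hcomm : Commute v (base ^ oddPrime i) := by
      rw [show base ^ oddPrime i = SemidirectProduct.inr ((Multiplicative.ofAdd (1 : ZMod 21945)) ^ oddPrime i) from
        (map_pow _ _ _).symm]
      refine SemidirectProduct.ext ?_ (by simp [v])
      refine Multiplicative.toAdd.injective (Subtype.ext (funext fun j => funext fun x => ?_))
      show coord (v * SemidirectProduct.inr _) j x = coord (SemidirectProduct.inr _ * v) j x
      rw [coord_mul, coord_mul]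
      have z : ∀ (c : Multiplicative (ZMod 21945)) (j : Fin 5) x,
          coord (SemidirectProduct.inr c : ShiftGroup N) j x = 0 := fun _ _ _ => rfl
      rw [z, z, add_zero, zero_add]
      by_cases hji : j = i
      · subst hji
        have e : reduceTo j ((Multiplicative.ofAdd (1 : ZMod 21945)) ^ oddPrime j).toAdd = 0 := by
          rw [toAdd_pow, map_nsmul, nsmul_eq_mul, ZMod.natCast_self, zero_mul]
        rw [SemidirectProduct.right_inr, e, add_zero]
      · have z2 : ∀ y, coord v j y = 0 := fun y => by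
          show (twoPoint N i _).1 j y = 0
          simp [twoPoint, Function.update_of_ne hji]
        rw [z2, z2]
    have hbp : orderOf (base ^ oddPrime i) = M := by
      rw [orderOf_pow_of_dvd hp.ne_zero ⟨M, by rw [hb, hM]⟩, hb, hM, Nat.mul_div_cancel_left _ hp.pos]
    have hcop : (orderOf v).Coprime (orderOf (base ^ oddPrime i)) := by
      rw [hv, hbp, Nat.coprime_two_left]
      exact Odd.of_dvd_nat (show Odd 21945 by decide) (Dvd.intro_left (oddPrime i) hM.symm)
    refine ⟨v * base ^ oddPrime i, ?_⟩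
    rw [hcomm.orderOf_mul_eq_mul_orderOf_of_coprime hcop, hv, hbp]
    refine Nat.dvd_of_mul_dvd_mul_left hp.pos (hi.trans ⟨1, ?_⟩)
    linarith [hM, show oddPrime i * (2 * M) = 2 * (oddPrime i * M) by ring]

theorem lt_card_shiftGroup (N : ℕ) : N < Nat.card (ShiftGroup N) := by
  have hinj : Function.Injective
      (fun e : Fin N → ZMod 2 => (SemidirectProduct.inl (Multiplicative.ofAdd (twoPoint N 0 e)) : ShiftGroup N)) := by
    intro a b h
    have h1 := Multiplicative.ofAdd.injective (SemidirectProduct.inl_injective h)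
    rw [← twoPoint_apply N 0 a, h1, twoPoint_apply]
  have := Nat.card_le_card_of_injective _ hinj
  simp only [Nat.card_fun, Nat.card_eq_fintype_card, ZMod.card, Fintype.card_fin] at this
  exact Nat.lt_two_pow_self.trans_le (by simpa [Nat.card_eq_fintype_card] using this)

/-- Unboundedly large groups have the element orders of the fourth power. -/
theorem exists_large_isospectral_fourth (N : ℕ) : ∃ (H : Type) (_ : Group H) (_ : Fintype H),
    N < Fintype.card H ∧ Set.range (orderOf : H → ℕ) =
      Set.range (orderOf : ↥Cfsg.Spor.J1 × ↥Cfsg.Spor.J1 × ↥Cfsg.Spor.J1 × ↥Cfsg.Spor.J1 → ℕ) := by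
  haveI : Finite (ShiftGroup (N + 1)) := shiftGroup_finite _
  letI := Fintype.ofFinite (ShiftGroup (N + 1))
  refine ⟨ShiftGroup (N + 1), inferInstance, inferInstance, ?_, ?_⟩
  · rw [← Nat.card_eq_fintype_card]
    exact lt_of_le_of_lt (Nat.le_succ N) (lt_card_shiftGroup (N + 1))
  · ext n
    rw [mem_range_orderOf_shift (Nat.succ_pos N), mem_range_orderOf_fourth]

end CfsgLib.Char.J1
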